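import Mathlib

set_option linter.style.haveILetI false
set_option linter.unusedVariables false
set_option linter.unusedSectionVars false
set_option autoImplicit false
set_option backward.isDefEq.respectTransparency.types false
set_option backward.isDefEq.respectTransparency false
set_option synthInstance.maxHeartbeats 400000
set_option maxHeartbeats 1600000

universe u

/-! helper7: étaleness of the ring of global functions of a quasi-compact quasi-separated scheme over a field descends along extensions of the base field (flat base change of global sections and faithfully flat descent of étale algebras) -/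

open CategoryTheory CategoryTheory.Limits AlgebraicGeometry TopologicalSpace Opposite

namespace Groth.Agent.Helper7.EtH0

section Alg

/-- étale ring maps descend along faithfully flat cobase change -/
theorem etale_of_isPushout {R S R' S' : CommRingCat.{u}} {a : R ⟶ S} {b : R ⟶ R'}
    {a' : S ⟶ S'} {b' : R' ⟶ S'} (h : IsPushout a b a' b') (hb : b.hom.FaithfullyFlat)
    (hb' : b'.hom.Etale) : a.hom.Etale := by
  algebraize [a.hom, b.hom, a'.hom, b'.hom, a'.hom.comp a.hom]
  haveI : IsScalarTower R S S' := .of_algebraMap_eq fun x ↦ rfl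
  haveI : IsScalarTower R R' S' := .of_algebraMap_eq fun x ↦ congr($(h.w).hom x)
  haveI hp : Algebra.IsPushout R S R' S' := CommRingCat.isPushout_iff_isPushout.mp h
  exact RingHom.Etale.codescendsAlong_faithfullyFlat (R := R) (S := S) (R' := R') (S' := S')
    hb hb'

variable {K₀ K : Type u} [Field K₀] [Field K] (ι : K₀ →+* K)

theorem faithfullyFlat_appTop_specMap :
    (Spec.map (CommRingCat.ofHom ι)).appTop.hom.FaithfullyFlat := by
  have h1 : (Spec.map (CommRingCat.ofHom ι)).appTop =
      (Scheme.ΓSpecIso (CommRingCat.of K₀)).hom ≫ CommRingCat.ofHom ι ≫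
        (Scheme.ΓSpecIso (CommRingCat.of K)).inv := by
    rw [← Category.assoc, Iso.eq_comp_inv]
    exact Scheme.ΓSpecIso_naturality (CommRingCat.ofHom ι)
  rw [h1]
  have hι : ι.FaithfullyFlat := by
    letI := ι.toAlgebra
    exact (inferInstance : Module.FaithfullyFlat K₀ K)
  exact RingHom.FaithfullyFlat.stableUnderComposition _ _
    (RingHom.FaithfullyFlat.of_bijective
      (ConcreteCategory.bijective_of_isIso (Scheme.ΓSpecIso (CommRingCat.of K₀)).hom))
    (RingHom.FaithfullyFlat.stableUnderComposition _ _ hι
      (RingHom.FaithfullyFlat.of_bijective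
        (ConcreteCategory.bijective_of_isIso (Scheme.ΓSpecIso (CommRingCat.of K)).inv)))

theorem flat_specMap_field : Flat (Spec.map (CommRingCat.ofHom ι)) := by
  rw [HasRingHomProperty.Spec_iff (P := @Flat)]
  letI := ι.toAlgebra
  exact (inferInstance : Module.Flat K₀ K)

/-- **étaleness of the algebra of global functions descends along field extensions** -/
theorem etale_appTop_of_field_baseChange {Z Z' : Scheme.{u}}
    (f₁ : Z ⟶ Spec (CommRingCat.of K₀)) [QuasiCompact f₁] [QuasiSeparated f₁]
    (f' : Z' ⟶ Spec (CommRingCat.of K)) (g' : Z' ⟶ Z)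
    (H : IsPullback g' f' f₁ (Spec.map (CommRingCat.ofHom ι))) (het : f'.appTop.hom.Etale) :
    f₁.appTop.hom.Etale := by
  haveI : CompactSpace ↥Z := QuasiCompact.compactSpace_of_compactSpace f₁
  haveI : QuasiSeparatedSpace ↥Z := quasiSeparatedSpace_of_quasiSeparated f₁
  haveI : Flat (Spec.map (CommRingCat.ofHom ι)) := flat_specMap_field ι
  have hUY : (⊤ : Z'.Opens) = g' ⁻¹ᵁ ⊤ ⊓ f' ⁻¹ᵁ ⊤ := by simp
  have hiso := isIso_pushoutSection_of_isQuasiSeparated_of_flat_right H
    (US := ⊤) (UT := ⊤) (UX := ⊤) (UY := ⊤) le_top le_top hUY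
    (isAffineOpen_top _) (isAffineOpen_top _) isCompact_univ isQuasiSeparated_univ
  have hpo := (isIso_pushoutSection_iff H le_top le_top hUY).1 hiso
  have e1 : f₁.appLE ⊤ ⊤ le_top = f₁.appTop := Scheme.Hom.appLE_eq_app f₁
  have e2 : (Spec.map (CommRingCat.ofHom ι)).appLE ⊤ ⊤ le_top =
      (Spec.map (CommRingCat.ofHom ι)).appTop := Scheme.Hom.appLE_eq_app _
  have e4 : f'.appLE ⊤ ⊤ le_top = f'.appTop := Scheme.Hom.appLE_eq_app f'
  rw [e1, e2, e4] at hpo
  exact etale_of_isPushout hpo (faithfullyFlat_appTop_specMap ι) het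

end Alg

end Groth.Agent.Helper7.EtH0
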