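import Mathlib
import Groth.Agent.Lib.Helper7.GeomConn.GlobSec
import Groth.Agent.Lib.Helper7.EtH0.Descent

set_option linter.style.haveILetI false
set_option linter.unusedVariables false
set_option linter.unusedSectionVars false
set_option autoImplicit false
set_option backward.isDefEq.respectTransparency.types false
set_option backward.isDefEq.respectTransparency false
set_option synthInstance.maxHeartbeats 400000
set_option maxHeartbeats 1600000

universe u

/-! helper7: the algebra of global functions of a proper scheme over a field which becomes reduced over an algebraically closed extension is étale over the field; consequence for the fibres of a proper morphism with geometrically reduced fibres -/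

open CategoryTheory CategoryTheory.Limits AlgebraicGeometry TopologicalSpace Opposite TensorProduct

namespace Groth.Agent.Helper7.EtH0

open Groth.Agent.Helper7.GeomConn

section Alg

attribute [local instance] IsArtinianRing.fieldOfSubtypeIsMaximal in
/-- a finite reduced algebra over an algebraically closed field is étale -/
theorem etale_of_finite_reduced (Ω E : Type u) [Field Ω] [IsAlgClosed Ω] [CommRing E]
    [Algebra Ω E] [Module.Finite Ω E] [IsReduced E] : Algebra.Etale Ω E := by
  classical
  haveI : IsArtinianRing E := IsArtinianRing.of_finite Ω E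
  refine ⟨?_, Algebra.FinitePresentation.of_finiteType.mp inferInstance⟩
  rw [Algebra.FormallyEtale.iff_of_equiv ((IsArtinianRing.equivPi E).restrictScalars Ω),
    Algebra.FormallyEtale.pi_iff]
  intro i
  haveI : Module.Finite Ω (E ⧸ i.asIdeal) := inferInstance
  haveI : Algebra.IsAlgebraic Ω (E ⧸ i.asIdeal) := inferInstance
  haveI : Algebra.IsSeparable Ω (E ⧸ i.asIdeal) :=
    Algebra.IsAlgebraic.isSeparable_of_perfectField
  exact Algebra.FormallyEtale.of_isSeparable Ω (E ⧸ i.asIdeal)

end Alg

section ToGamma

variable {K : Type u} [Field K] {Z : Scheme.{u}} (g : Z ⟶ Spec (CommRingCat.of K))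

/-- removing the identification of the field with the functions on its spectrum -/
theorem etale_appTop_of_toΓ (h : (toΓ K Z g).Etale) : g.appTop.hom.Etale := by
  have h2 := RingHom.Etale.stableUnderComposition _ _
    (RingHom.Etale.of_bijective
      (ConcreteCategory.bijective_of_isIso (Scheme.ΓSpecIso (CommRingCat.of K)).hom)) h
  have h3 : (toΓ K Z g).comp (Scheme.ΓSpecIso (CommRingCat.of K)).hom.hom = g.appTop.hom := by
    refine RingHom.ext fun x => ?_
    have h4 : (Scheme.ΓSpecIso (CommRingCat.of K)).inv.hom
        ((Scheme.ΓSpecIso (CommRingCat.of K)).hom.hom x) = x :=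
      congrArg (fun ψ => ψ.hom x) (Scheme.ΓSpecIso (CommRingCat.of K)).hom_inv_id
    change g.appTop.hom ((Scheme.ΓSpecIso (CommRingCat.of K)).inv.hom
      ((Scheme.ΓSpecIso (CommRingCat.of K)).hom.hom x)) = _
    rw [h4]
  rw [h3] at h2
  exact h2

theorem etale_toΓ_of_appTop (h : g.appTop.hom.Etale) : (toΓ K Z g).Etale :=
  RingHom.Etale.stableUnderComposition _ _
    (RingHom.Etale.of_bijective
      (ConcreteCategory.bijective_of_isIso (Scheme.ΓSpecIso (CommRingCat.of K)).inv)) h

end ToGamma

section BaseChange

variable (k : Type u) [Field k] (X : Scheme.{u}) (f : X ⟶ Spec (CommRingCat.of k))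

/-- flat base change of global sections along a field extension, as an isomorphism of algebras
over the larger field -/
theorem exists_algEquiv_baseChange' [QuasiCompact f] [QuasiSeparated f]
    (K : Type u) [Field K] [Algebra k K] :
    letI := (toΓ k X f).toAlgebra
    letI : Algebra K Γ(pullback f (Spec.map (CommRingCat.ofHom (algebraMap k K))), ⊤) :=
      (toΓ K _ (pullback.snd f (Spec.map (CommRingCat.ofHom (algebraMap k K))))).toAlgebra
    Nonempty (K ⊗[k] Γ(X, ⊤) ≃ₐ[K]
      Γ(pullback f (Spec.map (CommRingCat.ofHom (algebraMap k K))), ⊤)) := by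
  let i : Spec (CommRingCat.of K) ⟶ Spec (CommRingCat.of k) :=
    Spec.map (CommRingCat.ofHom (algebraMap k K))
  let p := pullback.fst f i
  let q := pullback.snd f i
  haveI : Flat i := inferInstance
  have P1 : IsPushout f.appTop i.appTop p.appTop q.appTop :=
    AffDesc.isPushout_appTop_of_flat f i
  let α := (Scheme.ΓSpecIso (CommRingCat.of k)).inv
  let β := (Scheme.ΓSpecIso (CommRingCat.of K)).inv
  have P2 : IsPushout (α ≫ f.appTop) (CommRingCat.ofHom (algebraMap k K)) p.appTop
      (β ≫ q.appTop) := by
    refine P1.of_iso (Scheme.ΓSpecIso (CommRingCat.of k)) (Iso.refl _)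
      (Scheme.ΓSpecIso (CommRingCat.of K)) (Iso.refl _) ?_ ?_ ?_ ?_
    · simp [α]
    · exact Scheme.ΓSpecIso_naturality (CommRingCat.ofHom (algebraMap k K))
    · simp
    · simp [β]
  letI a1 : Algebra k Γ(X, ⊤) := (toΓ k X f).toAlgebra
  letI a2 : Algebra K Γ(pullback f i, ⊤) := (toΓ K _ q).toAlgebra
  letI a3 : Algebra Γ(X, ⊤) Γ(pullback f i, ⊤) := p.appTop.hom.toAlgebra
  letI a4 : Algebra k Γ(pullback f i, ⊤) := (p.appTop.hom.comp (toΓ k X f)).toAlgebra
  haveI t1 : IsScalarTower k Γ(X, ⊤) Γ(pullback f i, ⊤) := IsScalarTower.of_algebraMap_eq' rfl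
  haveI t2 : IsScalarTower k K Γ(pullback f i, ⊤) := by
    apply IsScalarTower.of_algebraMap_eq'
    have := congrArg CommRingCat.Hom.hom P2.w
    exact this
  have hP : Algebra.IsPushout k Γ(X, ⊤) K Γ(pullback f i, ⊤) :=
    CommRingCat.isPushout_iff_isPushout.mp P2
  haveI hP' : Algebra.IsPushout k K Γ(X, ⊤) Γ(pullback f i, ⊤) := hP.symm
  exact ⟨Algebra.IsPushout.equiv k K _ _⟩

end BaseChange

section Reduced

variable {k Ω : Type u} [Field k] [Field Ω] [IsAlgClosed Ω] (ι : k →+* Ω)
  {Y : Scheme.{u}} (q : Y ⟶ Spec (CommRingCat.of k)) [IsProper q]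

/-- **the algebra of global functions of a proper scheme over a field which is reduced over an
algebraically closed extension is étale** -/
theorem etale_appTop_of_isReduced_baseChange
    (hred : IsReduced (pullback q (Spec.map (CommRingCat.ofHom ι)))) : q.appTop.hom.Etale := by
  haveI : IsProper (pullback.snd q (Spec.map (CommRingCat.ofHom ι))) := inferInstance
  letI a1 : Algebra Ω Γ(pullback q (Spec.map (CommRingCat.ofHom ι)), ⊤) :=
    (toΓ Ω _ (pullback.snd q (Spec.map (CommRingCat.ofHom ι)))).toAlgebra
  haveI hfin : Module.Finite Ω Γ(pullback q (Spec.map (CommRingCat.ofHom ι)), ⊤) :=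
    finite_globalSections Ω _ (pullback.snd q (Spec.map (CommRingCat.ofHom ι)))
  haveI : _root_.IsReduced Γ(pullback q (Spec.map (CommRingCat.ofHom ι)), ⊤) :=
    hred.component_reduced ⊤
  have hE : Algebra.Etale Ω Γ(pullback q (Spec.map (CommRingCat.ofHom ι)), ⊤) :=
    etale_of_finite_reduced Ω _
  have h1 : (toΓ Ω _ (pullback.snd q (Spec.map (CommRingCat.ofHom ι)))).Etale :=
    RingHom.etale_algebraMap.2 hE
  have h2 := etale_appTop_of_toΓ _ h1
  exact etale_appTop_of_field_baseChange ι q (pullback.snd q (Spec.map (CommRingCat.ofHom ι)))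
    (pullback.fst q (Spec.map (CommRingCat.ofHom ι))) (IsPullback.of_hasPullback _ _) h2

end Reduced

section Fibre

variable {X S : Scheme.{u}} (f : X ⟶ S) [IsProper f] (t : S)

/-- a geometrically reduced fibre of a proper morphism has an étale algebra of global functions -/
theorem etale_fibre_of_geomReduced' [GeometricallyReduced (f.fiberToSpecResidueField t)] :
    (f.fiberToSpecResidueField t).appTop.hom.Etale := by
  haveI : IsProper (f.fiberToSpecResidueField t) :=
    inferInstanceAs (IsProper (pullback.snd f (S.fromSpecResidueField t)))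
  have hred : IsReduced (pullback (f.fiberToSpecResidueField t)
      (Spec.map (CommRingCat.ofHom (algebraMap (S.residueField t)
        (AlgebraicClosure (S.residueField t)))))) :=
    GeometricallyReduced.geometrically_isReduced (f := f.fiberToSpecResidueField t) _ _ _
      (IsPullback.of_hasPullback _ _)
  exact etale_appTop_of_isReduced_baseChange
    (algebraMap (S.residueField t) (AlgebraicClosure (S.residueField t)))
    (f.fiberToSpecResidueField t) hred

theorem etale_fibre_of_geomReduced [GeometricallyReduced f] :
    (f.fiberToSpecResidueField t).appTop.hom.Etale :=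
  etale_fibre_of_geomReduced' f t

end Fibre

end Groth.Agent.Helper7.EtH0
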