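import Mathlib
import Groth.Agent.Lib.Helper7.GeomConn.SchemeGlue

set_option linter.style.haveILetI false
set_option linter.unusedVariables false
set_option linter.unusedSectionVars false
set_option autoImplicit false
set_option backward.isDefEq.respectTransparency.types false
set_option backward.isDefEq.respectTransparency false
set_option synthInstance.maxHeartbeats 400000
set_option maxHeartbeats 1600000

universe u

/-! helper7: lifting global functions along a surjective closed immersion (a nilpotent thickening): a function on the closed subscheme which is a simple root of a polynomial with coefficients in the functions of the ambient scheme lifts uniquely to a root; consequently, if the functions of the closed subscheme form an étale algebra over a field, compatibly with a ring mapping to the functions of the ambient scheme and onto the field, every function lifts -/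

open CategoryTheory CategoryTheory.Limits AlgebraicGeometry TopologicalSpace Opposite

namespace Groth.Agent.Helper7.EtH0

section Alg

/-- an element which becomes invertible modulo a nil ideal is invertible -/
theorem isUnit_of_map_of_nil {C C₀ : Type u} [CommRing C] [CommRing C₀] (φ : C →+* C₀)
    (hφ : Function.Surjective φ) (hnil : ∀ a, φ a = 0 → IsNilpotent a) (a : C)
    (ha : IsUnit (φ a)) : IsUnit a := by
  obtain ⟨v, hv⟩ := ha.exists_right_inv
  obtain ⟨c, rfl⟩ := hφ v
  have h1 : IsNilpotent (a * c - 1) :=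
    hnil _ (by rw [map_sub, map_mul, hv, map_one, sub_self])
  have h2 : IsUnit (a * c) := by
    have h3 := h1.isUnit_add_one
    rwa [sub_add_cancel] at h3
  exact isUnit_of_mul_isUnit_left h2

/-- **unique lifting of simple roots along a surjection with nil kernel** -/
theorem existsUnique_root_lift {C C₀ : Type u} [CommRing C] [CommRing C₀] (φ : C →+* C₀)
    (hφ : Function.Surjective φ) (hnil : ∀ a, φ a = 0 → IsNilpotent a) (Q : Polynomial C)
    (β : C₀) (h0 : Polynomial.eval₂ φ β Q = 0)
    (hu : IsUnit (Polynomial.eval₂ φ β (Polynomial.derivative Q))) :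
    ∃! r : C, φ r = β ∧ Polynomial.eval r Q = 0 := by
  obtain ⟨x, hx⟩ := hφ β
  have hn : IsNilpotent (Polynomial.aeval x Q) := by
    rw [Polynomial.coe_aeval_eq_eval]
    apply hnil
    rw [← Polynomial.eval₂_hom, hx, h0]
  have hU : IsUnit (Polynomial.aeval x (Polynomial.derivative Q)) := by
    rw [Polynomial.coe_aeval_eq_eval]
    apply isUnit_of_map_of_nil φ hφ hnil
    rw [← Polynomial.eval₂_hom, hx]
    exact hu
  obtain ⟨r, ⟨hr1, hr2⟩, hruniq⟩ :=
    Polynomial.existsUnique_nilpotent_sub_and_aeval_eq_zero hn hU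
  rw [Polynomial.coe_aeval_eq_eval] at hr2
  have hn0 : IsNilpotent (Polynomial.aeval β (Q.map φ)) := by
    rw [Polynomial.coe_aeval_eq_eval, Polynomial.eval_map, h0]
    exact IsNilpotent.zero
  have hU0 : IsUnit (Polynomial.aeval β (Polynomial.derivative (Q.map φ))) := by
    rw [Polynomial.derivative_map, Polynomial.coe_aeval_eq_eval, Polynomial.eval_map]
    exact hu
  obtain ⟨r₀, -, huniq0⟩ :=
    Polynomial.existsUnique_nilpotent_sub_and_aeval_eq_zero hn0 hU0
  have e1 : β = r₀ := huniq0 β ⟨by rw [sub_self]; exact IsNilpotent.zero, by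
    rw [Polynomial.coe_aeval_eq_eval, Polynomial.eval_map, h0]⟩
  have e2 : φ r = r₀ := huniq0 (φ r) ⟨by rw [← hx, ← map_sub]; exact hr1.map φ, by
    rw [Polynomial.coe_aeval_eq_eval, Polynomial.eval_map, Polynomial.eval₂_hom, hr2, map_zero]⟩
  refine ⟨r, ⟨e2.trans e1.symm, hr2⟩, ?_⟩
  rintro r' ⟨h1, h2⟩
  apply hruniq r'
  refine ⟨hnil _ (by rw [map_sub, hx, h1, sub_self]), ?_⟩
  rw [Polynomial.coe_aeval_eq_eval]
  exact h2

/-- every element of an étale algebra over a field is a simple root of a polynomial -/
theorem exists_poly_of_etale (K A : Type u) [Field K] [CommRing A] [Algebra K A]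
    [Algebra.Etale K A] (b : A) :
    ∃ p : Polynomial K, Polynomial.aeval b p = 0 ∧
      IsUnit (Polynomial.aeval b (Polynomial.derivative p)) := by
  classical
  obtain ⟨I, hI, Ai, hF, hAlg, e, H⟩ :=
    (Algebra.Etale.iff_exists_algEquiv_prod K A).1 inferInstance
  haveI := Fintype.ofFinite I
  have hint : ∀ i, IsIntegral K (e b i) := fun i => by
    haveI := (H i).1
    exact Algebra.IsIntegral.isIntegral _
  let S : Finset (Polynomial K) := Finset.image (fun i => minpoly K (e b i)) Finset.univ
  have hS : ∀ q ∈ S, ∃ i, q = minpoly K (e b i) := by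
    intro q hq
    obtain ⟨i, -, rfl⟩ := Finset.mem_image.1 hq
    exact ⟨i, rfl⟩
  have hsep : (∏ q ∈ S, (id q : Polynomial K)).Separable := by
    apply Polynomial.separable_prod'
    · intro q hq q' hq' hne
      obtain ⟨i, rfl⟩ := hS q hq
      obtain ⟨j, rfl⟩ := hS q' hq'
      rw [id, id, (minpoly.irreducible (hint i)).coprime_iff_not_dvd]
      intro hdvd
      apply hne
      exact Polynomial.eq_of_monic_of_associated (minpoly.monic (hint i)) (minpoly.monic (hint j))
        ((minpoly.irreducible (hint i)).associated_of_dvd (minpoly.irreducible (hint j)) hdvd)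
    · intro q hq
      obtain ⟨i, rfl⟩ := hS q hq
      haveI := (H i).2
      exact Algebra.IsSeparable.isSeparable K (e b i)
  have h0 : Polynomial.aeval b (∏ q ∈ S, (id q : Polynomial K)) = 0 := by
    apply e.injective
    have h := Polynomial.aeval_algHom_apply (e : A →ₐ[K] (Π i, Ai i)) b
      (∏ q ∈ S, (id q : Polynomial K))
    have h' : e (Polynomial.aeval b (∏ q ∈ S, (id q : Polynomial K))) =
        Polynomial.aeval (e b) (∏ q ∈ S, (id q : Polynomial K)) := h.symm
    rw [h', map_zero]
    funext i
    have h1 : (Polynomial.aeval (e b) (∏ q ∈ S, (id q : Polynomial K))) i =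
        Polynomial.aeval (e b i) (∏ q ∈ S, (id q : Polynomial K)) := by
      have := Polynomial.aeval_algHom_apply (Pi.evalAlgHom K Ai i) (e b)
        (∏ q ∈ S, (id q : Polynomial K))
      exact this.symm
    rw [h1]
    have hdvd : minpoly K (e b i) ∣ ∏ q ∈ S, (id q : Polynomial K) :=
      Finset.dvd_prod_of_mem id (Finset.mem_image.2 ⟨i, Finset.mem_univ i, rfl⟩)
    obtain ⟨c, hc⟩ := hdvd
    rw [hc, map_mul, minpoly.aeval, zero_mul]
    rfl
  refine ⟨∏ q ∈ S, (id q : Polynomial K), h0, ?_⟩
  obtain ⟨u, v, huv⟩ := hsep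
  have h2 := congrArg (Polynomial.aeval b) huv
  rw [map_add, map_mul, map_mul, map_one, h0, mul_zero, zero_add] at h2
  exact IsUnit.of_mul_eq_one_right _ h2

end Alg

section Sch

variable {X₀ X : Scheme.{u}} (i : X₀ ⟶ X)

theorem res_res' (Y : Scheme.{u}) {U V W : Y.Opens} (h1 : V ≤ U) (h2 : W ≤ V) (a : Γ(Y, U)) :
    (Y.presheaf.map (homOfLE h2).op).hom ((Y.presheaf.map (homOfLE h1).op).hom a) =
      (Y.presheaf.map (homOfLE (h2.trans h1)).op).hom a := by
  have h : Y.presheaf.map (homOfLE h1).op ≫ Y.presheaf.map (homOfLE h2).op =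
      Y.presheaf.map (homOfLE (h2.trans h1)).op := by
    rw [← Functor.map_comp]
    rfl
  exact congrArg (fun ψ => ψ.hom a) h

theorem app_res {U V : X.Opens} (h : V ≤ U) (a : Γ(X, U)) :
    (i.app V).hom ((X.presheaf.map (homOfLE h).op).hom a) =
      (X₀.presheaf.map (homOfLE (i.preimage_mono h)).op).hom ((i.app U).hom a) := by
  have h1 := i.naturality (homOfLE h).op
  exact congrArg (fun ψ => ψ.hom a) h1

variable [IsClosedImmersion i] [Surjective i]

/-- functions on an affine open of the ambient scheme vanishing on the closed subscheme are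
nilpotent -/
theorem isNilpotent_of_app_eq_zero {U : X.Opens} (hU : IsAffineOpen U) (a : Γ(X, U))
    (ha : (i.app U).hom a = 0) : IsNilpotent a := by
  rw [Scheme.isNilpotent_iff_basicOpen_eq_bot_of_isCompact hU.isCompact, eq_bot_iff]
  intro x hx
  obtain ⟨x₀, rfl⟩ := i.surjective x
  have h1 : x₀ ∈ i ⁻¹ᵁ X.basicOpen a := hx
  rw [Scheme.Hom.preimage_basicOpen] at h1
  have h2 : X₀.basicOpen ((i.app U).hom a) = ⊥ := by
    rw [ha]
    exact Scheme.basicOpen_zero _ _
  rw [h2] at h1
  exact h1

/-- **lifting simple roots of polynomials to global functions of a thickening** -/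
theorem exists_lift_of_root (P : Polynomial Γ(X, ⊤)) (b : Γ(X₀, ⊤))
    (hP : Polynomial.eval₂ i.appTop.hom b P = 0)
    (hu : IsUnit (Polynomial.eval₂ i.appTop.hom b (Polynomial.derivative P))) :
    ∃ b' : Γ(X, ⊤), i.appTop.hom b' = b := by
  -- the data over an affine open
  have key : ∀ (W : X.affineOpens) (R : Polynomial Γ(X, ⊤)),
      Polynomial.eval₂ (i.app W.1).hom
        ((X₀.presheaf.map (homOfLE (le_top : i ⁻¹ᵁ W.1 ≤ ⊤)).op).hom b)
        (R.map (X.presheaf.map (homOfLE (le_top : W.1 ≤ ⊤)).op).hom) =
      (X₀.presheaf.map (homOfLE (le_top : i ⁻¹ᵁ W.1 ≤ ⊤)).op).hom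
        (Polynomial.eval₂ i.appTop.hom b R) := by
    intro W R
    rw [Polynomial.eval₂_map, Polynomial.hom_eval₂]
    congr 1
    ext a
    exact app_res i (le_top : W.1 ≤ ⊤) a
  have hex : ∀ W : X.affineOpens, ∃! r : Γ(X, W.1),
      (i.app W.1).hom r = (X₀.presheaf.map (homOfLE (le_top : i ⁻¹ᵁ W.1 ≤ ⊤)).op).hom b ∧
      Polynomial.eval r (P.map (X.presheaf.map (homOfLE (le_top : W.1 ≤ ⊤)).op).hom) = 0 := by
    intro W
    apply existsUnique_root_lift (i.app W.1).hom (i.app_surjective W.1 W.2)
      (fun a ha => isNilpotent_of_app_eq_zero i W.2 a ha)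
    · rw [key W P, hP, map_zero]
    · rw [Polynomial.derivative_map, key W (Polynomial.derivative P)]
      exact hu.map _
  choose r hr hruniq using hex
  have hcompat : ∀ (V W : X.affineOpens) (h : V.1 ≤ W.1),
      X.presheaf.map (homOfLE h).op (r W) = r V := by
    intro V W h
    apply hruniq V
    constructor
    · have h1 := app_res i h (r W)
      refine h1.trans ?_
      rw [(hr W).1]
      exact res_res' X₀ (le_top : i ⁻¹ᵁ W.1 ≤ ⊤) (i.preimage_mono h) b
    · have h2 : P.map (X.presheaf.map (homOfLE (le_top : V.1 ≤ ⊤)).op).hom =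
          (P.map (X.presheaf.map (homOfLE (le_top : W.1 ≤ ⊤)).op).hom).map
            (X.presheaf.map (homOfLE h).op).hom := by
        rw [Polynomial.map_map]
        congr 1
        ext a
        exact (res_res' X (le_top : W.1 ≤ ⊤) h a).symm
      rw [h2, Polynomial.eval_map]
      have h3 := Polynomial.eval₂_hom (p := P.map (X.presheaf.map
        (homOfLE (le_top : W.1 ≤ ⊤)).op).hom) (X.presheaf.map (homOfLE h).op).hom (r W)
      refine h3.trans ?_
      rw [(hr W).2, map_zero]
  obtain ⟨b', hb'⟩ := Groth.Agent.Helper7.GeomConn.exists_section_of_affine_family X r hcompat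
  refine ⟨b', ?_⟩
  apply Groth.Agent.Helper7.GeomConn.eq_of_forall_preimage_affine i
  intro W
  have h1 := app_res i (le_top : W.1 ≤ ⊤) b'
  have h2 : (X.presheaf.map (homOfLE (le_top : W.1 ≤ ⊤)).op).hom b' = r W := hb' W
  rw [h2, (hr W).1] at h1
  exact h1.symm

/-- **if the functions of the closed subscheme form an étale algebra over a field, compatibly
with a ring mapping to the functions of the ambient scheme and onto the field, every function
lifts** -/
theorem appTop_surjective_of_etale (K : Type u) [Field K] [Algebra K Γ(X₀, ⊤)]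
    [Algebra.Etale K Γ(X₀, ⊤)] {C : Type u} [CommRing C] (c : C →+* Γ(X, ⊤)) (π : C →+* K)
    (hπ : Function.Surjective π)
    (hc : i.appTop.hom.comp c = (algebraMap K Γ(X₀, ⊤)).comp π) :
    Function.Surjective i.appTop.hom := by
  intro b
  obtain ⟨p, hp0, hpu⟩ := exists_poly_of_etale K Γ(X₀, ⊤) b
  obtain ⟨p', rfl⟩ := Polynomial.map_surjective π hπ p
  have hkey : ∀ R : Polynomial C, Polynomial.eval₂ i.appTop.hom b (R.map c) =
      Polynomial.aeval b (R.map π) := by
    intro R
    rw [Polynomial.eval₂_map, hc, Polynomial.aeval_def, Polynomial.eval₂_map]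
  apply exists_lift_of_root i (p'.map c) b
  · rw [hkey, hp0]
  · rw [Polynomial.derivative_map, hkey, ← Polynomial.derivative_map]
    exact hpu

end Sch

end Groth.Agent.Helper7.EtH0
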