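import Mathlib
import Groth.Agent.Lib.Helper7.GenBC.LocAlg

set_option linter.style.haveILetI false
set_option linter.unusedVariables false
set_option linter.unusedSectionVars false
set_option autoImplicit false
set_option backward.isDefEq.respectTransparency.types false
set_option backward.isDefEq.respectTransparency false
set_option synthInstance.maxHeartbeats 400000
set_option maxHeartbeats 1600000

universe u

/-! helper7: a finite module over a Noetherian local ring whose reductions modulo all powers of the maximal ideal are flat is free; consequently the exchange property of a finite free complex over a Noetherian local ring can be checked modulo the powers of the maximal ideal -/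

open CategoryTheory CategoryTheory.Limits TensorProduct
open Groth.Agent.Lib.Helper4.ExchAlg1

namespace Groth.Agent.Helper7.EtH0

section LC

variable {R : Type u} [CommRing R] [IsLocalRing R]

theorem isUnit_of_isUnit_mk {I : Ideal R} (hI : I ≤ IsLocalRing.maximalIdeal R) (a : R)
    (ha : IsUnit (Ideal.Quotient.mk I a)) : IsUnit a := by
  obtain ⟨v, hv⟩ := ha.exists_right_inv
  obtain ⟨c, rfl⟩ := Ideal.Quotient.mk_surjective v
  by_contra hna
  have h1 : a * c - 1 ∈ I := by
    rw [← Ideal.Quotient.eq_zero_iff_mem, map_sub, map_mul, hv, map_one, sub_self]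
  have h2 : a * c ∈ IsLocalRing.maximalIdeal R :=
    Ideal.mul_mem_right c _ ((IsLocalRing.mem_maximalIdeal a).2 hna)
  have h3 : (1 : R) ∈ IsLocalRing.maximalIdeal R := by
    have := Ideal.sub_mem _ h2 (hI h1)
    rwa [sub_sub_cancel] at this
  exact (IsLocalRing.maximalIdeal.isMaximal R).ne_top ((Ideal.eq_top_iff_one _).2 h3)

variable [IsNoetherianRing R]

/-- **a finite module over a Noetherian local ring whose reductions modulo the powers of the
maximal ideal are flat is free** -/
theorem free_of_flat_quotients (W : Type u) [AddCommGroup W] [Module R W] [Module.Finite R W]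
    (h : ∀ n : ℕ, Module.Flat (R ⧸ (IsLocalRing.maximalIdeal R) ^ (n + 1))
      ((R ⧸ (IsLocalRing.maximalIdeal R) ^ (n + 1)) ⊗[R] W)) :
    Module.Free R W := by
  classical
  let k := IsLocalRing.ResidueField R
  let w := Module.Free.chooseBasis k (k ⊗[R] W)
  have hs := TensorProduct.mk_surjective R W k Ideal.Quotient.mk_surjective
  choose v hv using fun i => hs (w i)
  have hv' : ∀ i, (1 : k) ⊗ₜ[R] v i = w i := hv
  have hspan : Submodule.span R (Set.range v) = ⊤ :=
    IsLocalRing.span_eq_top_of_tmul_eq_basis v w hv'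
  have hLI : LinearIndependent R v := by
    rw [Fintype.linearIndependent_iff]
    intro g hg i
    have hmem : ∀ n : ℕ, g i ∈ (IsLocalRing.maximalIdeal R) ^ (n + 1) := by
      intro n
      have hle : (IsLocalRing.maximalIdeal R) ^ (n + 1) ≤ IsLocalRing.maximalIdeal R :=
        Ideal.pow_le_self (Nat.succ_ne_zero n)
      haveI : Nontrivial (R ⧸ (IsLocalRing.maximalIdeal R) ^ (n + 1)) :=
        Ideal.Quotient.nontrivial_iff.2 (fun htop =>
          (IsLocalRing.maximalIdeal.isMaximal R).ne_top (top_le_iff.1 (htop ▸ hle)))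
      haveI : IsLocalRing (R ⧸ (IsLocalRing.maximalIdeal R) ^ (n + 1)) :=
        IsLocalRing.of_surjective' (Ideal.Quotient.mk _) Ideal.Quotient.mk_surjective
      haveI := h n
      -- the images of the vectors
      let v' : Module.Free.ChooseBasisIndex k (k ⊗[R] W) →
          (R ⧸ (IsLocalRing.maximalIdeal R) ^ (n + 1)) ⊗[R] W :=
        fun i => (1 : R ⧸ (IsLocalRing.maximalIdeal R) ^ (n + 1)) ⊗ₜ[R] v i
      -- the comparison map to the residue field
      let ψ : (R ⧸ (IsLocalRing.maximalIdeal R) ^ (n + 1)) →ₗ[R] k :=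
        (Ideal.Quotient.factorₐ R hle).toLinearMap
      let Ψ : (R ⧸ (IsLocalRing.maximalIdeal R) ^ (n + 1)) ⊗[R] W →ₗ[R] k ⊗[R] W :=
        LinearMap.rTensor W ψ
      have hΨ : ∀ (a : R) (x : W),
          Ψ ((Ideal.Quotient.mk ((IsLocalRing.maximalIdeal R) ^ (n + 1)) a) ⊗ₜ[R] x) =
            (IsLocalRing.residue R a) ⊗ₜ[R] x := fun a x => rfl
      have hsm : ∀ (a : R) (y : (R ⧸ (IsLocalRing.maximalIdeal R) ^ (n + 1)) ⊗[R] W),
          (Ideal.Quotient.mk ((IsLocalRing.maximalIdeal R) ^ (n + 1)) a) • y = a • y := by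
        intro a y
        rw [← Ideal.Quotient.algebraMap_eq, algebraMap_smul]
      have hkill : ∀ y ∈ (IsLocalRing.maximalIdeal (R ⧸ (IsLocalRing.maximalIdeal R) ^ (n + 1))) •
          (⊤ : Submodule (R ⧸ (IsLocalRing.maximalIdeal R) ^ (n + 1))
            ((R ⧸ (IsLocalRing.maximalIdeal R) ^ (n + 1)) ⊗[R] W)), Ψ y = 0 := by
        intro y hy
        refine Submodule.smul_induction_on hy ?_ ?_
        · intro b hb p _
          obtain ⟨a, rfl⟩ := Ideal.Quotient.mk_surjective b
          have ha : a ∈ IsLocalRing.maximalIdeal R := by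
            rw [IsLocalRing.mem_maximalIdeal]
            intro hu
            exact (IsLocalRing.mem_maximalIdeal _).1 hb (hu.map _)
          rw [hsm, map_smul]
          have h0 : IsLocalRing.residue R a = 0 := (IsLocalRing.residue_eq_zero_iff a).2 ha
          have h1 : a • Ψ p = (IsLocalRing.residue R a) • Ψ p := by
            rw [← IsLocalRing.ResidueField.algebraMap_eq, algebraMap_smul]
          rw [h1, h0, zero_smul]
        · intro x y hx hy
          rw [map_add, hx, hy, add_zero]
      have hk : LinearIndependent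
          (IsLocalRing.ResidueField (R ⧸ (IsLocalRing.maximalIdeal R) ^ (n + 1)))
          (TensorProduct.mk (R ⧸ (IsLocalRing.maximalIdeal R) ^ (n + 1))
            (IsLocalRing.ResidueField (R ⧸ (IsLocalRing.maximalIdeal R) ^ (n + 1)))
            ((R ⧸ (IsLocalRing.maximalIdeal R) ^ (n + 1)) ⊗[R] W) 1 ∘ v') := by
        rw [Fintype.linearIndependent_iff]
        intro c hc j
        have hlift : ∀ i, ∃ a : R, IsLocalRing.residue _
            (Ideal.Quotient.mk ((IsLocalRing.maximalIdeal R) ^ (n + 1)) a) = c i := by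
          intro i
          obtain ⟨b, hb⟩ := IsLocalRing.residue_surjective (c i)
          obtain ⟨a, rfl⟩ := Ideal.Quotient.mk_surjective b
          exact ⟨a, hb⟩
        choose a ha using hlift
        have hy : (∑ i, (Ideal.Quotient.mk ((IsLocalRing.maximalIdeal R) ^ (n + 1)) (a i)) • v' i) ∈
            (IsLocalRing.maximalIdeal (R ⧸ (IsLocalRing.maximalIdeal R) ^ (n + 1))) •
              (⊤ : Submodule (R ⧸ (IsLocalRing.maximalIdeal R) ^ (n + 1))
                ((R ⧸ (IsLocalRing.maximalIdeal R) ^ (n + 1)) ⊗[R] W)) := by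
          rw [← LinearMap.ker_tensorProductMk, LinearMap.mem_ker, map_sum]
          rw [← hc]
          refine Finset.sum_congr rfl fun i _ => ?_
          rw [map_smul, ← ha i]
          have hsmk : ∀ (b : R ⧸ (IsLocalRing.maximalIdeal R) ^ (n + 1))
              (z : (IsLocalRing.ResidueField (R ⧸ (IsLocalRing.maximalIdeal R) ^ (n + 1))) ⊗[R ⧸ (IsLocalRing.maximalIdeal R) ^ (n + 1)]
                ((R ⧸ (IsLocalRing.maximalIdeal R) ^ (n + 1)) ⊗[R] W)),
              b • z = (IsLocalRing.residue _ b) • z := by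
            intro b z
            rw [← IsLocalRing.ResidueField.algebraMap_eq, algebraMap_smul]
          rw [hsmk]
          rfl
        have h0 := hkill _ hy
        rw [map_sum] at h0
        have h1 : ∀ i, Ψ ((Ideal.Quotient.mk ((IsLocalRing.maximalIdeal R) ^ (n + 1)) (a i)) • v' i) =
            (IsLocalRing.residue R (a i)) • w i := by
          intro i
          rw [← hv' i]
          change Ψ ((Ideal.Quotient.mk _ (a i)) • ((1 : R ⧸ _) ⊗ₜ[R] v i)) = _
          rw [TensorProduct.smul_tmul', smul_eq_mul, mul_one, hΨ, TensorProduct.smul_tmul',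
            smul_eq_mul, mul_one]
        simp_rw [h1] at h0
        have h2 := Fintype.linearIndependent_iff.1 w.linearIndependent
          (fun i => IsLocalRing.residue R (a i)) h0 j
        have h3 : a j ∈ IsLocalRing.maximalIdeal R := (IsLocalRing.residue_eq_zero_iff _).1 h2
        rw [← ha j, IsLocalRing.residue_eq_zero_iff, IsLocalRing.mem_maximalIdeal]
        intro hu
        exact (IsLocalRing.mem_maximalIdeal _).1 h3 (isUnit_of_isUnit_mk hle _ hu)
      have hLIB := Module.IsLocalRing.linearIndependent_of_flat v' hk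
      have hsum : ∑ i, (Ideal.Quotient.mk ((IsLocalRing.maximalIdeal R) ^ (n + 1)) (g i)) • v' i =
          0 := by
        have h1 : ∀ i, (Ideal.Quotient.mk ((IsLocalRing.maximalIdeal R) ^ (n + 1)) (g i)) • v' i =
            (1 : R ⧸ (IsLocalRing.maximalIdeal R) ^ (n + 1)) ⊗ₜ[R] (g i • v i) := by
          intro i
          rw [hsm]
          exact (TensorProduct.tmul_smul (g i) _ (v i)).symm
        simp_rw [h1]
        rw [← TensorProduct.tmul_sum, hg, TensorProduct.tmul_zero]
      have h4 := Fintype.linearIndependent_iff.1 hLIB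
        (fun i => Ideal.Quotient.mk ((IsLocalRing.maximalIdeal R) ^ (n + 1)) (g i)) hsum i
      exact Ideal.Quotient.eq_zero_iff_mem.1 h4
    have hbot : g i ∈ (⨅ n : ℕ, (IsLocalRing.maximalIdeal R) ^ n) := by
      rw [Ideal.mem_iInf]
      intro n
      exact Ideal.pow_le_pow_right (Nat.le_succ n) (hmem n)
    rw [Ideal.iInf_pow_eq_bot_of_isLocalRing _ (IsLocalRing.maximalIdeal.isMaximal R).ne_top] at hbot
    exact hbot
  exact Module.Free.of_basis (Module.Basis.mk hLI hspan.ge)

end LC

section ALG

variable {A₁ R : Type u} [CommRing A₁] [CommRing R] [IsLocalRing R] [IsNoetherianRing R]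
  (j : A₁ →+* R) (K : CochainComplex (ModuleCat.{u} A₁) ℤ) (p : ℤ)
  [Module.Finite A₁ (K.X (p + 1))] [Module.Free A₁ (K.X (p + 1))]

/-- **the exchange property over a Noetherian local ring can be checked modulo the powers of the
maximal ideal** -/
theorem presSurj_of_quotients
    (h : ∀ n : ℕ,
      letI : Algebra A₁ (R ⧸ (IsLocalRing.maximalIdeal R) ^ (n + 1)) :=
        ((Ideal.Quotient.mk ((IsLocalRing.maximalIdeal R) ^ (n + 1))).comp j).toAlgebra
      PresSurj (Groth.Agent.Helper7.GenBC.bcK
        (B := R ⧸ (IsLocalRing.maximalIdeal R) ^ (n + 1)) K) p) :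
    letI : Algebra A₁ R := j.toAlgebra
    PresSurj (Groth.Agent.Helper7.GenBC.bcK (B := R) K) p := by
  letI algR : Algebra A₁ R := j.toAlgebra
  haveI : Module.Finite R (R ⊗[A₁] (K.X (p + 1) ⧸ Bq K p (p + 1))) := inferInstance
  have hflat : ∀ n : ℕ, Module.Flat (R ⧸ (IsLocalRing.maximalIdeal R) ^ (n + 1))
      ((R ⧸ (IsLocalRing.maximalIdeal R) ^ (n + 1)) ⊗[R]
        (R ⊗[A₁] (K.X (p + 1) ⧸ Bq K p (p + 1)))) := by
    intro n
    letI algB : Algebra A₁ (R ⧸ (IsLocalRing.maximalIdeal R) ^ (n + 1)) :=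
      ((Ideal.Quotient.mk ((IsLocalRing.maximalIdeal R) ^ (n + 1))).comp j).toAlgebra
    haveI : IsScalarTower A₁ R (R ⧸ (IsLocalRing.maximalIdeal R) ^ (n + 1)) :=
      IsScalarTower.of_algebraMap_eq (fun x => rfl)
    haveI : Module.Flat (R ⧸ (IsLocalRing.maximalIdeal R) ^ (n + 1))
        ((Groth.Agent.Helper7.GenBC.bcK
          (B := R ⧸ (IsLocalRing.maximalIdeal R) ^ (n + 1)) K).X (p + 1)) :=
      show Module.Flat (R ⧸ (IsLocalRing.maximalIdeal R) ^ (n + 1))
        ((R ⧸ (IsLocalRing.maximalIdeal R) ^ (n + 1)) ⊗[A₁] K.X (p + 1)) from inferInstance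
    have h1 := (presSurj_iff_flat (Groth.Agent.Helper7.GenBC.bcK
      (B := R ⧸ (IsLocalRing.maximalIdeal R) ^ (n + 1)) K) (p - 1) p (p + 1)
      (sub_add_cancel p 1) rfl).1 (h n)
    let e4 := Groth.Agent.Helper7.GenBC.wEquiv
      (B := R ⧸ (IsLocalRing.maximalIdeal R) ^ (n + 1)) K p (p + 1)
    let e3 := AlgebraTensorModule.cancelBaseChange A₁ R
      (R ⧸ (IsLocalRing.maximalIdeal R) ^ (n + 1)) (R ⧸ (IsLocalRing.maximalIdeal R) ^ (n + 1))
      (K.X (p + 1) ⧸ Bq K p (p + 1))
    haveI := h1
    exact Module.Flat.of_linearEquiv (e3 ≪≫ₗ e4.symm)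
  haveI := free_of_flat_quotients (R ⊗[A₁] (K.X (p + 1) ⧸ Bq K p (p + 1))) hflat
  haveI : Module.Flat R ((Groth.Agent.Helper7.GenBC.bcK (B := R) K).X (p + 1)) :=
    show Module.Flat R (R ⊗[A₁] K.X (p + 1)) from inferInstance
  have hfl : Module.Flat R ((Groth.Agent.Helper7.GenBC.bcK (B := R) K).X (p + 1) ⧸
      Bq (Groth.Agent.Helper7.GenBC.bcK (B := R) K) p (p + 1)) :=
    Module.Flat.of_linearEquiv (Groth.Agent.Helper7.GenBC.wEquiv (B := R) K p (p + 1))
  exact (presSurj_iff_flat (Groth.Agent.Helper7.GenBC.bcK (B := R) K) (p - 1) p (p + 1)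
    (sub_add_cancel p 1) rfl).2 hfl

end ALG

end Groth.Agent.Helper7.EtH0
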