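import Mathlib
import Groth.Prelude.Def_CohCmp
import Groth.Agent.Lib.Helper7.GenBC.EpiZeroRows
import Groth.Agent.Lib.Helper7.GenBC.H0Iso
import Groth.Agent.Lib.Helper7.Betti.Main
import Groth.Agent.Lib.Helper1.PullSec
import Groth.Agent.Lib.Helper1.FPA8
import Groth.Agent.Lib.Helper1.IdealModL

set_option linter.style.haveILetI false
set_option linter.unusedVariables false
set_option linter.unusedSectionVars false
set_option autoImplicit false
set_option backward.isDefEq.respectTransparency.types false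
set_option backward.isDefEq.respectTransparency false
set_option synthInstance.maxHeartbeats 400000
set_option maxHeartbeats 1600000

universe u

/-! helper7: Noetherian models of proper flat finitely presented morphisms whose model module is the structure sheaf of a flat model; transport of models along isomorphisms and base change of models along ring maps from the Noetherian ring -/

open CategoryTheory CategoryTheory.Limits AlgebraicGeometry Opposite TopologicalSpace Topology
open Groth.Agent.Helper1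
open Groth.Agent.Helper1.RpushLoc
open Groth.Agent.Lib.Helper4.MumBC2

namespace Groth.Agent.Helper7.EtH0

open Groth.Agent.Helper7.LimBC Groth.Agent.Helper7.LimDesc Groth.Agent.Helper7
  Groth.Agent.Helper7.LimStage Groth.Agent.Helper7.FlatNoeth
open Groth.Agent.Helper7.GenBC

section Model

variable (A : Type u) [CommRing A] {X : Scheme.{u}}
  (f : X ⟶ Spec (CommRingCat.of A)) [LocallyOfFinitePresentation f] [QuasiCompact f]
  [QuasiSeparated f]

/-- flatness of the total space descends to a model of finite presentation over a finitely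
generated subring -/
theorem exists_unit_model_flat_fp (hfl : FlatMod.IsFlatOver f (Coh.structureModule X)) :
    ∃ (j : (FGSub.Idx A)ᵒᵖ) (X₀ : Scheme.{u}) (f₀ : X₀ ⟶ (FGSub.specDiag A).obj j)
      (q : X ⟶ X₀), LocallyOfFinitePresentation f₀ ∧ QuasiCompact f₀ ∧
      QuasiSeparated f₀ ∧
      IsPullback q f f₀ ((FGSub.specCone A).π.app j) ∧
      FlatMod.IsFlatOver f₀ (Coh.structureModule X₀) := by
  obtain ⟨j, X₀, u₀, q, F₀', hlfp, hqc, hqs, hpb, -, -, -⟩ :=
    exists_fg_model_mod A f (Coh.structureModule X) (Groth.Agent.Helper1.FPA.isFP_unit X)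
  haveI := hlfp
  haveI := hqc
  haveI := hqs
  have hF₀fp : CohB1.IsFP (Coh.structureModule X₀) := Groth.Agent.Helper1.FPA.isFP_unit X₀
  have e : (Scheme.Modules.pullback q).obj (Coh.structureModule X₀) ≅ Coh.structureModule X :=
    Groth.Agent.Helper1.PullSec.unitIso q
  have hc := (FGSub.isLimit_specCone A).some
  haveI : ∀ {a b : Over j} (φ : a ⟶ b),
      IsAffineHom ((Over.forget j ⋙ FGSub.specDiag A).map φ) := fun φ => by
    show IsAffineHom ((FGSub.specDiag A).map φ.left)
    infer_instance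
  haveI : ∀ k : Over j, IsAffineHom ((FGSub.specDiag A).map k.hom) := fun k => inferInstance
  haveI : CompactSpace ↥X₀ := QuasiCompact.compactSpace_of_compactSpace u₀
  have hcE : IsLimit ((FGSub.specCone A).whisker (Over.forget j)) :=
    (Functor.Initial.isLimitWhiskerEquiv (Over.forget j) (FGSub.specCone A)).symm hc
  have H : ∀ x : X, FlatMod.IsFlatOverAt f
      ((Scheme.Modules.pullback q).obj (Coh.structureModule X₀)) x := fun x =>
    Groth.Agent.Lib.Helper4.ChartSq1.isFlatOverAt_of_iso f e.symm x (hfl x)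
  obtain ⟨k₂, hk₂⟩ := Groth.Agent.Lib.Helper4.LimTRegD.exists_stage_flat
    (Over.forget j ⋙ FGSub.specDiag A) ((FGSub.specCone A).whisker (Over.forget j)) hcE
    (fun k => (FGSub.specDiag A).map k.hom)
    (fun {a b} φ => by
      show (FGSub.specDiag A).map φ.left ≫ (FGSub.specDiag A).map b.hom =
        (FGSub.specDiag A).map a.hom
      rw [← (FGSub.specDiag A).map_comp, Over.w])
    ((FGSub.specCone A).π.app j) (fun k => (FGSub.specCone A).w k.hom) u₀ q f hpb
    (Coh.structureModule X₀) hF₀fp H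
  have hpbk := IsPullback.of_hasPullback u₀ ((FGSub.specDiag A).map k₂.hom)
  have hflat := hk₂ k₂ (𝟙 k₂) _ _ _ hpbk
  have hw : q ≫ u₀ = (f ≫ (FGSub.specCone A).π.app k₂.left) ≫ (FGSub.specDiag A).map k₂.hom := by
    rw [hpb.w, Category.assoc, (FGSub.specCone A).w]
  have hq' : IsPullback (pullback.lift q (f ≫ (FGSub.specCone A).π.app k₂.left) hw) f
      (pullback.snd u₀ ((FGSub.specDiag A).map k₂.hom)) ((FGSub.specCone A).π.app k₂.left) := by
    refine IsPullback.of_right (h₁₂ := pullback.fst u₀ ((FGSub.specDiag A).map k₂.hom))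
      (h₂₂ := (FGSub.specDiag A).map k₂.hom) (v₁₃ := u₀) ?_ (pullback.lift_snd _ _ _) hpbk
    rw [pullback.lift_fst, (FGSub.specCone A).w]
    exact hpb
  refine ⟨k₂.left, pullback u₀ ((FGSub.specDiag A).map k₂.hom), pullback.snd _ _,
    pullback.lift q (f ≫ (FGSub.specCone A).π.app k₂.left) hw, inferInstance, inferInstance,
    inferInstance, hq', ?_⟩
  intro z
  exact Groth.Agent.Lib.Helper4.ChartSq1.isFlatOverAt_of_iso _
    (Groth.Agent.Helper1.PullSec.unitIso (pullback.fst u₀ ((FGSub.specDiag A).map k₂.hom))) z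
    (hflat z)

end Model

/-- **Noetherian flat models of proper flat morphisms** -/
theorem exists_unit_model_proper_flat (A : Type u) [CommRing A] {X : Scheme.{u}}
    (f : X ⟶ Spec (CommRingCat.of A)) [IsProper f] [LocallyOfFinitePresentation f]
    (hfl : FlatMod.IsFlatOver f (Coh.structureModule X)) :
    ∃ (j : (FGSub.Idx A)ᵒᵖ) (X₀ : Scheme.{u}) (f₀ : X₀ ⟶ (FGSub.specDiag A).obj j)
      (q : X ⟶ X₀), IsProper f₀ ∧ FlatMod.IsFlatOver f₀ (Coh.structureModule X₀) ∧
      IsPullback q f f₀ ((FGSub.specCone A).π.app j) := by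
  obtain ⟨j, X₀, u₀, q, hlfp, hqc, hqs, hpb, hflat⟩ := exists_unit_model_flat_fp A f hfl
  haveI := hlfp
  haveI := hqc
  haveI := hqs
  have hc := (FGSub.isLimit_specCone A).some
  have hY : IsPullback ((FGSub.specCone A).π.app j) (𝟙 (FGSub.specCone A).pt)
      (𝟙 ((FGSub.specDiag A).obj j)) ((FGSub.specCone A).π.app j) :=
    IsPullback.id_vert ((FGSub.specCone A).π.app j)
  have hprop : IsProper (bcHom u₀ (𝟙 ((FGSub.specDiag A).obj j)) ((FGSub.specCone A).π.app j)) :=
    bcHom_of_isPullback u₀ (𝟙 ((FGSub.specDiag A).obj j)) @IsProper _ hY hpb inferInstance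
  haveI : CompactSpace ↥((FGSub.specDiag A).obj j) := by
    show CompactSpace ↥(Spec (CommRingCat.of ↥j.unop.1))
    infer_instance
  obtain ⟨k, χ, hk⟩ := ProperDesc.exists_stage_isProper (FGSub.specDiag A) (FGSub.specCone A)
    hc u₀ (𝟙 ((FGSub.specDiag A).obj j)) (fun k ψ => by
      haveI := AmpleCons.isNoetherian_specDiag_obj A k
      exact AmpleCons.isNoetherian_of_finiteType
        (pullback.snd (𝟙 ((FGSub.specDiag A).obj j)) ((FGSub.specDiag A).map ψ))) hprop
  have hk' : IsProper (pullback.snd (u₀ ≫ 𝟙 ((FGSub.specDiag A).obj j))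
      ((FGSub.specDiag A).map χ)) := by
    rw [← bcHom_snd u₀ (𝟙 ((FGSub.specDiag A).obj j)) ((FGSub.specDiag A).map χ)]
    exact (MorphismProperty.cancel_right_of_respectsIso @IsProper _ _).mpr hk
  have key : ∀ (t : X₀ ⟶ (FGSub.specDiag A).obj j), t = u₀ →
      IsProper (pullback.snd t ((FGSub.specDiag A).map χ)) →
      IsProper (pullback.snd u₀ ((FGSub.specDiag A).map χ)) := by
    rintro t rfl h
    exact h
  have hk'' := key _ (Category.comp_id u₀) hk'
  have hpbk := IsPullback.of_hasPullback u₀ ((FGSub.specDiag A).map χ)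
  have hw : q ≫ u₀ = (f ≫ (FGSub.specCone A).π.app k) ≫ (FGSub.specDiag A).map χ := by
    rw [hpb.w, Category.assoc, (FGSub.specCone A).w]
  have hq' : IsPullback (pullback.lift q (f ≫ (FGSub.specCone A).π.app k) hw) f
      (pullback.snd u₀ ((FGSub.specDiag A).map χ)) ((FGSub.specCone A).π.app k) := by
    refine IsPullback.of_right (h₁₂ := pullback.fst u₀ ((FGSub.specDiag A).map χ))
      (h₂₂ := (FGSub.specDiag A).map χ) (v₁₃ := u₀) ?_ (pullback.lift_snd _ _ _) hpbk
    rw [pullback.lift_fst, (FGSub.specCone A).w]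
    exact hpb
  refine ⟨k, pullback u₀ ((FGSub.specDiag A).map χ), pullback.snd _ _,
    pullback.lift q (f ≫ (FGSub.specCone A).π.app k) hw, hk'', ?_, hq'⟩
  intro z
  exact Groth.Agent.Lib.Helper4.ChartSq1.isFlatOverAt_of_iso _
    (Groth.Agent.Helper1.PullSec.unitIso (pullback.fst u₀ ((FGSub.specDiag A).map χ))) z
    (Groth.Agent.Lead.FB.flat_baseChange hpbk (Coh.structureModule X₀) z (hflat _))

/-- **existence of Noetherian models whose module is the structure sheaf** -/
theorem exists_unit_nmodel (A : Type u) [CommRing A] {X : Scheme.{u}}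
    (f : X ⟶ Spec (CommRingCat.of A)) [IsProper f] [LocallyOfFinitePresentation f]
    (hfl : FlatMod.IsFlatOver f (Coh.structureModule X)) :
    ∃ M : NModel A f (Coh.structureModule X), M.F₀ = Coh.structureModule M.X₀ := by
  obtain ⟨j, X₀, f₀, q, hprop, hflat, hpb⟩ := exists_unit_model_proper_flat A f hfl
  haveI : Algebra.FiniteType ℤ ↥j.unop.1 := (Subalgebra.fg_iff_finiteType _).mp j.unop.2
  haveI : IsNoetherianRing ↥j.unop.1 := Algebra.FiniteType.isNoetherianRing ℤ _
  obtain ⟨f₀', hf₀'⟩ : ∃ f₀' : X₀ ⟶ Spec (CommRingCat.of ↥j.unop.1), f₀' = f₀ := ⟨f₀, rfl⟩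
  haveI hprop' : IsProper f₀' := by rw [hf₀']; exact hprop
  have hflat' : FlatMod.IsFlatOver f₀' (Coh.structureModule X₀) := by rw [hf₀']; exact hflat
  have hpb' : IsPullback q f f₀' (Spec.map (CommRingCat.ofHom (algebraMap ↥j.unop.1 A))) := by
    rw [hf₀']; exact hpb
  letI : X₀.Over (Spec (CommRingCat.of ↥j.unop.1)) := ⟨f₀'⟩
  haveI : IsProper (X₀ ↘ Spec (CommRingCat.of ↥j.unop.1)) := hprop'
  have hcoh : Coh.IsCoh (Coh.structureModule X₀) :=
    ConsMod.isCoh_of_isFP _ (Groth.Agent.Helper1.FPA.isFP_unit X₀)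
  obtain ⟨D⟩ := nonempty_mdata ↥j.unop.1 X₀ (Coh.structureModule X₀) hcoh hflat'
  exact ⟨{ A₀ := ↥j.unop.1, j := algebraMap ↥j.unop.1 A, X₀ := X₀,
           F₀ := Coh.structureModule X₀, hcoh := hcoh,
           hflat := hflat', q := q, hpb := hpb',
           e := Groth.Agent.Helper1.PullSec.unitIso q, D := D }, rfl⟩

end Groth.Agent.Helper7.EtH0

namespace Groth.Agent.Helper7.GenBC.NModel

variable {A : Type u} [CommRing A] {X : Scheme.{u}} {f : X ⟶ Spec (CommRingCat.of A)}
  {F : X.Modules} (M : NModel A f F)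

/-- transport of a model along an isomorphism of modules -/
noncomputable def ofIso {F' : X.Modules} (e' : F ≅ F') : NModel A f F' :=
  { A₀ := M.A₀, j := M.j, X₀ := M.X₀, F₀ := M.F₀, hcoh := M.hcoh, hflat := M.hflat, q := M.q,
    hpb := M.hpb, e := M.e ≪≫ e', D := M.D }

/-- base change of a model along a ring map from its Noetherian ring -/
noncomputable def bc {B : Type u} [CommRing B] (ψ : M.A₀ →+* B) :
    NModel B (pullback.snd (M.X₀ ↘ Spec (CommRingCat.of M.A₀))
        (Spec.map (CommRingCat.ofHom ψ)))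
      ((Scheme.Modules.pullback (pullback.fst (M.X₀ ↘ Spec (CommRingCat.of M.A₀))
        (Spec.map (CommRingCat.ofHom ψ)))).obj M.F₀) :=
  { A₀ := M.A₀, j := ψ, X₀ := M.X₀, F₀ := M.F₀, hcoh := M.hcoh, hflat := M.hflat,
    q := pullback.fst _ _, hpb := IsPullback.of_hasPullback _ _, e := Iso.refl _, D := M.D }

end Groth.Agent.Helper7.GenBC.NModel

namespace Groth.Agent.Helper7.EtH0

open Groth.Agent.Helper7.GenBC

section Chart

variable {X S : Scheme.{u}} (f : X ⟶ S) [IsProper f] [LocallyOfFinitePresentation f] [Flat f]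
  (s : S)

/-- an affine chart around a point with a Noetherian flat model of the family over it -/
theorem exists_chart_unit_nmodel :
    ∃ (V₁ : S.Opens) (hV₁ : IsAffineOpen V₁), s ∈ V₁ ∧
      ∃ M : NModel Γ(S, V₁) (strMap f hV₁)
        ((Scheme.Modules.pullback (f ⁻¹ᵁ V₁).ι).obj (Coh.structureModule X)),
        M.F₀ = Coh.structureModule M.X₀ := by
  obtain ⟨_, ⟨V₁, hV₁, rfl⟩, hsV₁, -⟩ :=
    S.isBasis_affineOpens.exists_subset_of_mem_open (Set.mem_univ s) isOpen_univ
  have hsq := Groth.Agent.Lib.Helper4.ChartSq1.isPullback_chart f hV₁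
  haveI : IsProper (strMap f hV₁) :=
    MorphismProperty.of_isPullback (P := @IsProper) hsq inferInstance
  haveI : LocallyOfFinitePresentation (strMap f hV₁) :=
    MorphismProperty.of_isPullback (P := @LocallyOfFinitePresentation) hsq inferInstance
  haveI : Flat (strMap f hV₁) :=
    MorphismProperty.of_isPullback (P := @Flat) hsq inferInstance
  have hfl' : FlatMod.IsFlatOver (strMap f hV₁)
      (Coh.structureModule (↑(f ⁻¹ᵁ V₁) : Scheme.{u})) :=
    h0_isFlatOver_structureModule (strMap f hV₁)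
  obtain ⟨M, hM⟩ := exists_unit_nmodel Γ(S, V₁) (strMap f hV₁) hfl'
  exact ⟨V₁, hV₁, hsV₁,
    M.ofIso (Groth.Agent.Helper1.PullSec.unitIso (f ⁻¹ᵁ V₁).ι).symm, hM⟩

end Chart

end Groth.Agent.Helper7.EtH0
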