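import Mathlib
import Groth.Prelude.Def_CohCmp
import Groth.Agent.Lib.Helper7.EtH0.Hensel
import Groth.Agent.Lib.Helper7.EtH0.LocCrit
import Groth.Agent.Lib.Helper7.EtH0.UnitModel
import Groth.Agent.Lib.Helper1.LGen
import Groth.Agent.Lib.Helper1.PullGen
import Groth.Agent.Lib.Helper4.SepCover1

set_option linter.style.haveILetI false
set_option linter.unusedVariables false
set_option linter.unusedSectionVars false
set_option autoImplicit false
set_option backward.isDefEq.respectTransparency.types false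
set_option backward.isDefEq.respectTransparency false
set_option synthInstance.maxHeartbeats 400000
set_option maxHeartbeats 1600000

universe u

/-! helper7: the exchange property in degree zero of the complex of a flat Noetherian model over a Noetherian local ring whose closed fibre has an étale algebra of global functions: infinitesimal lifting of functions, generation on the closed fibre, the local criterion -/

open CategoryTheory CategoryTheory.Limits Opposite TopologicalSpace AlgebraicGeometry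
open AlgebraicGeometry.Scheme.Modules TensorProduct
open Groth.Agent.Helper1
open Groth.Agent.Helper1.RpushLoc
open Groth.Agent.Lib.Helper4.BaseChgRing1
open Groth.Agent.Lib.Helper4.TenSec2
open Groth.Agent.Lib.Helper4.LocCech1
open Groth.Agent.Lib.Helper4.CechTen1
open Groth.Agent.Lib.Helper4.BCSec1
open Groth.Agent.Lib.Helper4.BCSec2
open Groth.Agent.Lib.Helper4.ExchAlg1
open Groth.Agent.Lib.Helper4.ExchAlg2
open Groth.Agent.Lead.BCU Groth.Agent.Lead.FBC
open Groth.Agent.Helper7.GenBC

namespace Groth.Agent.Helper7.EtH0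

attribute [local instance] secMod

section Gen

open Groth.Agent.Helper1.LGen Groth.Agent.Helper1.PullSec Groth.Agent.Helper1.PullGen

/-- the image of `1` under an isomorphism from the structure sheaf is a free generator -/
theorem isGen_secVal_of_isIso {Y : Scheme.{u}} {L : Y.Modules} (s : Coh.structureModule Y ⟶ L)
    [IsIso s] : IsGen L ⊤ (secVal s ⊤) := by
  intro V h
  have hb := h0_bijective_app_of_isIso s V
  have h1 : (fun r : Γ(Y, V) => r • QcCech.res L h (secVal s ⊤)) =
      fun r : Γ(Y, V) => s.app V (show Γ(Coh.structureModule Y, V) from r) := by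
    funext r
    rw [res_secVal, ← app_eq_smul]
  rw [h1]
  exact hb

end Gen

section Spec

/-- a surjection onto a field with nil kernel is surjective on spectra -/
theorem surjective_specMap_of_nil {B κ : Type u} [CommRing B] [Field κ] (π : B →+* κ)
    (hπ : Function.Surjective π) (hnil : ∀ a, π a = 0 → IsNilpotent a) :
    Surjective (Spec.map (CommRingCat.ofHom π)) := by
  refine ⟨fun P => ?_⟩
  obtain ⟨P', hP'⟩ : ∃ P' : PrimeSpectrum B, P' = P := ⟨P, rfl⟩
  subst hP'
  have hmax : (RingHom.ker π).IsMaximal := RingHom.ker_isMaximal_of_surjective π hπ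
  have hle : RingHom.ker π ≤ P'.asIdeal := by
    intro x hx
    obtain ⟨m, hm⟩ := hnil x ((RingHom.mem_ker).1 hx)
    exact P'.isPrime.mem_of_pow_mem m (by rw [hm]; exact zero_mem _)
  have heq : RingHom.ker π = P'.asIdeal := hmax.eq_of_le P'.isPrime.ne_top hle
  refine ⟨(⟨⊥, Ideal.isPrime_bot⟩ : PrimeSpectrum κ), ?_⟩
  have h1 : PrimeSpectrum.comap π (⟨⊥, Ideal.isPrime_bot⟩ : PrimeSpectrum κ) = P' := by
    apply PrimeSpectrum.ext
    change Ideal.comap π ⊥ = P'.asIdeal
    rw [← heq]
    rfl
  exact h1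

end Spec

section Thick

variable {A : Type u} [CommRing A] {X : Scheme.{u}} {f : X ⟶ Spec (CommRingCat.of A)}
  {F : X.Modules} (M : NModel A f F)

/-- the base change of the model scheme -/
noncomputable abbrev ZB {B : Type u} [CommRing B] (ψ : M.A₀ →+* B) : Scheme.{u} :=
  pullback (M.X₀ ↘ Spec (CommRingCat.of M.A₀)) (Spec.map (CommRingCat.ofHom ψ))

/-- its structure morphism -/
noncomputable abbrev gB {B : Type u} [CommRing B] (ψ : M.A₀ →+* B) :
    ZB M ψ ⟶ Spec (CommRingCat.of B) :=
  pullback.snd _ _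

/-- its projection to the model -/
noncomputable abbrev qB {B : Type u} [CommRing B] (ψ : M.A₀ →+* B) : ZB M ψ ⟶ M.X₀ :=
  pullback.fst _ _

/-- the base change of the model module -/
noncomputable abbrev FB {B : Type u} [CommRing B] (ψ : M.A₀ →+* B) : (ZB M ψ).Modules :=
  (Scheme.Modules.pullback (qB M ψ)).obj M.F₀

variable {B κ : Type u} [CommRing B] [CommRing κ] (ψ : M.A₀ →+* B) (π : B →+* κ)

/-- the transition morphism between base changes -/
noncomputable def iB : ZB M (π.comp ψ) ⟶ ZB M ψ :=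
  pullback.lift (qB M (π.comp ψ)) (gB M (π.comp ψ) ≫ Spec.map (CommRingCat.ofHom π)) (by
    rw [pullback.condition, Category.assoc, ← Spec.map_comp, ← CommRingCat.ofHom_comp])

theorem isPullback_iB :
    IsPullback (iB M ψ π) (gB M (π.comp ψ)) (gB M ψ) (Spec.map (CommRingCat.ofHom π)) := by
  refine IsPullback.of_right (h₁₂ := qB M ψ) (h₂₂ := Spec.map (CommRingCat.ofHom ψ))
    (v₁₃ := M.X₀ ↘ Spec (CommRingCat.of M.A₀)) ?_ (pullback.lift_snd _ _ _)
    (IsPullback.of_hasPullback _ _)
  have h1 : iB M ψ π ≫ qB M ψ = qB M (π.comp ψ) := pullback.lift_fst _ _ _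
  have h2 : Spec.map (CommRingCat.ofHom π) ≫ Spec.map (CommRingCat.ofHom ψ) =
      Spec.map (CommRingCat.ofHom (π.comp ψ)) := by
    rw [← Spec.map_comp, ← CommRingCat.ofHom_comp]
  rw [h1, h2]
  exact IsPullback.of_hasPullback _ _

end Thick

section Thick2

variable {A : Type u} [CommRing A] {X : Scheme.{u}} {f : X ⟶ Spec (CommRingCat.of A)}
  {F : X.Modules} (M : NModel A f F) (hM : M.F₀ = Coh.structureModule M.X₀)
  {B κ : Type u} [CommRing B] [Field κ] (ψ : M.A₀ →+* B) (π : B →+* κ)
  (hπ : Function.Surjective π) (hnil : ∀ a, π a = 0 → IsNilpotent a)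

open Groth.Agent.Helper1.LGen Groth.Agent.Helper1.PullSec Groth.Agent.Helper1.PullGen

include hM hπ hnil in
/-- **the exchange property over a nilpotent thickening of a field**: if the functions of the
fibre over the field form an étale algebra, the degree-zero exchange property holds for the base
change of the complex of the model -/
theorem presSurj_of_thickening
    (het : (gB M (π.comp ψ)).appTop.hom.Etale) :
    letI : Algebra M.A₀ B := ψ.toAlgebra
    PresSurj (bcK (B := B) M.D.K) ((0 : ℕ) : ℤ) := by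
  haveI : M.F₀.IsQuasicoherent := M.hcoh.1
  haveI hqcF : (FB M ψ).IsQuasicoherent := Groth.Agent.Lead.PB.isQuasicoherent_pullback _ _
  have hsq := isPullback_iB M ψ π
  haveI : IsProper (gB M ψ) := inferInstance
  haveI : CompactSpace ↥(ZB M ψ) := QuasiCompact.compactSpace_of_compactSpace (gB M ψ)
  obtain ⟨ι, hfin, U, hcov, haff⟩ := Groth.Agent.Lib.Helper4.SepCover1.exists_cover (gB M ψ)
  haveI := hfin
  haveI hci : IsClosedImmersion (Spec.map (CommRingCat.ofHom π)) :=
    IsClosedImmersion.spec_of_surjective _ hπ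
  haveI hsj : Surjective (Spec.map (CommRingCat.ofHom π)) :=
    surjective_specMap_of_nil π hπ hnil
  haveI : IsClosedImmersion (iB M ψ π) :=
    MorphismProperty.of_isPullback (P := @IsClosedImmersion) hsq.flip inferInstance
  haveI : Surjective (iB M ψ π) :=
    MorphismProperty.of_isPullback (P := @Surjective) hsq.flip inferInstance
  letI algκ : Algebra κ Γ(ZB M (π.comp ψ), ⊤) :=
    ((gB M (π.comp ψ)).appTop.hom.comp
      (Scheme.ΓSpecIso (CommRingCat.of κ)).inv.hom).toAlgebra
  haveI : Algebra.Etale κ Γ(ZB M (π.comp ψ), ⊤) := by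
    rw [← RingHom.etale_algebraMap]
    change ((gB M (π.comp ψ)).appTop.hom.comp
      (Scheme.ΓSpecIso (CommRingCat.of κ)).inv.hom).Etale
    exact RingHom.Etale.stableUnderComposition _ _
      (RingHom.Etale.of_bijective
        (ConcreteCategory.bijective_of_isIso (Scheme.ΓSpecIso (CommRingCat.of κ)).inv)) het
  let c : B →+* Γ(ZB M ψ, ⊤) :=
    (gB M ψ).appTop.hom.comp (Scheme.ΓSpecIso (CommRingCat.of B)).inv.hom
  have hcat : (Scheme.ΓSpecIso (CommRingCat.of B)).inv ≫ (gB M ψ).appTop ≫ (iB M ψ π).appTop =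
      CommRingCat.ofHom π ≫ (Scheme.ΓSpecIso (CommRingCat.of κ)).inv ≫
        (gB M (π.comp ψ)).appTop := by
    calc (Scheme.ΓSpecIso (CommRingCat.of B)).inv ≫ (gB M ψ).appTop ≫ (iB M ψ π).appTop
        = (Scheme.ΓSpecIso (CommRingCat.of B)).inv ≫ (iB M ψ π ≫ gB M ψ).appTop := by
          rw [Scheme.Hom.comp_appTop]
      _ = (Scheme.ΓSpecIso (CommRingCat.of B)).inv ≫
          (gB M (π.comp ψ) ≫ Spec.map (CommRingCat.ofHom π)).appTop := by rw [hsq.w]
      _ = ((Scheme.ΓSpecIso (CommRingCat.of B)).inv ≫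
          (Spec.map (CommRingCat.ofHom π)).appTop) ≫ (gB M (π.comp ψ)).appTop := by
          rw [Scheme.Hom.comp_appTop, Category.assoc]
      _ = _ := by rw [← Scheme.ΓSpecIso_inv_naturality, Category.assoc]
  have hc : (iB M ψ π).appTop.hom.comp c =
      (algebraMap κ Γ(ZB M (π.comp ψ), ⊤)).comp π := by
    refine RingHom.ext fun x => ?_
    exact congrArg (fun φ : CommRingCat.of B ⟶ Γ(ZB M (π.comp ψ), ⊤) => φ.hom x) hcat
  have hsurj := appTop_surjective_of_etale (iB M ψ π) κ c π hπ hc
  let eG : Coh.structureModule (ZB M ψ) ≅ FB M ψ :=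
    (Groth.Agent.Helper1.PullSec.unitIso (qB M ψ)).symm ≪≫
      (Scheme.Modules.pullback (qB M ψ)).mapIso (eqToIso hM.symm)
  have ha := isGen_secVal_of_isIso eG.hom
  have hgen := isGen_σ (iB M ψ π) ha
  letI ovB : (ZB M ψ).Over (Spec (CommRingCat.of B)) := ⟨gB M ψ⟩
  letI ovκ : (ZB M (π.comp ψ)).Over (Spec (CommRingCat.of κ)) := ⟨gB M (π.comp ψ)⟩
  have hsec : Submodule.span κ (Set.range (fun m : Γ(FB M ψ, (⊤ : (ZB M ψ).Opens)) =>
      uAdd (iB M ψ π) (FB M ψ)
        (le_top : (⊤ : (ZB M (π.comp ψ)).Opens) ≤ (iB M ψ π) ⁻¹ᵁ ⊤) m)) = ⊤ := by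
    rw [eq_top_iff]
    intro t _
    apply Submodule.subset_span
    obtain ⟨r, hr⟩ := (hgen ⊤ le_top).2 t
    obtain ⟨r₀, rfl⟩ := hsurj r
    refine ⟨r₀ • secVal eG.hom ⊤, ?_⟩
    change uAdd (iB M ψ π) (FB M ψ)
      (le_top : (⊤ : (ZB M (π.comp ψ)).Opens) ≤ (iB M ψ π) ⁻¹ᵁ ⊤) (r₀ • secVal eG.hom ⊤) = t
    rw [uAdd_apply, unitRes_smul]
    have happ : (iB M ψ π).appLE ⊤ ⊤ le_top = (iB M ψ π).appTop :=
      Scheme.Hom.appLE_eq_app (iB M ψ π)
    rw [happ]
    exact hr
  have hspan := span_pullMod_zero_of_sections π (iB M ψ π) (FB M ψ) U hsq haff hcov hsec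
  obtain ⟨g, hg, hPS⟩ := (M.bc ψ).exists_unit_presSurj_of_span 0 (Field.toIsField κ) π
    (gB M (π.comp ψ)) (iB M ψ π) hsq hspan
  have hu : IsUnit g := isUnit_of_map_of_nil π hπ hnil g (Ne.isUnit hg)
  exact hPS B (RingHom.id B) hu

end Thick2

section Local

variable {A : Type u} [CommRing A] {X : Scheme.{u}} {f : X ⟶ Spec (CommRingCat.of A)}
  {F : X.Modules} (M : NModel A f F) (hM : M.F₀ = Coh.structureModule M.X₀)
  {R : Type u} [CommRing R] [IsLocalRing R] [IsNoetherianRing R] (j : M.A₀ →+* R)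

include hM in
/-- **the exchange property over a Noetherian local ring**: if the functions of the closed fibre
form an étale algebra over the residue field, the degree-zero exchange property holds for the
base change of the complex of the model -/
theorem presSurj_of_etale_closedFibre
    (het : (gB M ((IsLocalRing.residue R).comp j)).appTop.hom.Etale) :
    letI : Algebra M.A₀ R := j.toAlgebra
    PresSurj (bcK (B := R) M.D.K) ((0 : ℕ) : ℤ) := by
  haveI : Module.Finite M.A₀ (M.D.K.X (((0 : ℕ) : ℤ) + 1)) := (M.D.hff _).1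
  haveI : Module.Free M.A₀ (M.D.K.X (((0 : ℕ) : ℤ) + 1)) := (M.D.hff _).2
  apply presSurj_of_quotients j M.D.K ((0 : ℕ) : ℤ)
  intro n
  have hle : (IsLocalRing.maximalIdeal R) ^ (n + 1) ≤ IsLocalRing.maximalIdeal R :=
    Ideal.pow_le_self (Nat.succ_ne_zero n)
  let π : (R ⧸ (IsLocalRing.maximalIdeal R) ^ (n + 1)) →+* IsLocalRing.ResidueField R :=
    Ideal.Quotient.factor hle
  have hfac : π.comp (Ideal.Quotient.mk ((IsLocalRing.maximalIdeal R) ^ (n + 1))) =
      IsLocalRing.residue R := Ideal.Quotient.factor_comp_mk hle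
  have het' : (gB M (π.comp
      ((Ideal.Quotient.mk ((IsLocalRing.maximalIdeal R) ^ (n + 1))).comp j))).appTop.hom.Etale := by
    rw [← RingHom.comp_assoc, hfac]
    exact het
  have hnil : ∀ a, π a = 0 → IsNilpotent a := by
    intro a ha
    obtain ⟨r, rfl⟩ := Ideal.Quotient.mk_surjective a
    have hr : r ∈ IsLocalRing.maximalIdeal R := by
      have h1 : Ideal.Quotient.mk (IsLocalRing.maximalIdeal R) r = 0 := ha
      exact Ideal.Quotient.eq_zero_iff_mem.1 h1
    refine ⟨n + 1, ?_⟩
    rw [← map_pow]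
    exact Ideal.Quotient.eq_zero_iff_mem.2 (Ideal.pow_mem_pow hr (n + 1))
  exact presSurj_of_thickening M hM
    ((Ideal.Quotient.mk ((IsLocalRing.maximalIdeal R) ^ (n + 1))).comp j) π
    (Ideal.Quotient.factor_surjective hle) hnil het'

end Local

end Groth.Agent.Helper7.EtH0
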