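import Mathlib
import Groth.Prelude.Def_CohCmp
import Groth.Agent.Lib.Helper7.EtH0.Local
import Groth.Agent.Lib.Helper7.EtH0.Descent
import Groth.Agent.Lib.Helper5.Perf.Shrink

set_option linter.style.haveILetI false
set_option linter.unusedVariables false
set_option linter.unusedSectionVars false
set_option autoImplicit false
set_option backward.isDefEq.respectTransparency.types false
set_option backward.isDefEq.respectTransparency false
set_option synthInstance.maxHeartbeats 400000
set_option maxHeartbeats 1600000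

universe u

/-! helper7: a proper flat finitely presented morphism whose fibre at a point has an étale algebra of global functions is cohomologically flat in degree zero near the point: the direct image of the structure sheaf is finite locally free near the point and commutes with every base change there -/

open CategoryTheory CategoryTheory.Limits Opposite TopologicalSpace AlgebraicGeometry
open AlgebraicGeometry.Scheme.Modules TensorProduct
open Groth.Agent.Helper1
open Groth.Agent.Helper1.RpushLoc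
open Groth.Agent.Helper3
open Groth.Agent.Lib.Helper4.BaseChgRing1
open Groth.Agent.Lib.Helper4.TenSec2
open Groth.Agent.Lib.Helper4.LocCech1
open Groth.Agent.Lib.Helper4.CechTen1
open Groth.Agent.Lib.Helper4.ExchAlg1
open Groth.Agent.Lib.Helper4.ExchAlg2
open Groth.Agent.Lib.Helper4.TruncAlg1
open Groth.Agent.Lead.BCU
open Groth.Agent.Helper7.GenBC

namespace Groth.Agent.Helper7.EtH0

attribute [local instance] secMod

section LocalAlg

variable {A : Type u} [CommRing A] {X : Scheme.{u}} {f : X ⟶ Spec (CommRingCat.of A)}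
  {F : X.Modules} (M : NModel A f F) (hM : M.F₀ = Coh.structureModule M.X₀)
  {R : Type u} [CommRing R] [IsLocalRing R] [IsNoetherianRing R] [Algebra M.A₀ R]

include hM in
/-- the exchange property over a Noetherian local algebra over the Noetherian ring of the model -/
theorem presSurj_of_etale_closedFibre'
    (het : (gB M ((IsLocalRing.residue R).comp (algebraMap M.A₀ R))).appTop.hom.Etale) :
    PresSurj (bcK (B := R) M.D.K) ((0 : ℕ) : ℤ) := by
  have h := presSurj_of_etale_closedFibre M hM (algebraMap M.A₀ R) het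
  have halg : (algebraMap M.A₀ R).toAlgebra = (inferInstance : Algebra M.A₀ R) :=
    Algebra.algebra_ext _ _ (fun r => rfl)
  rw [halg] at h
  exact h

end LocalAlg

section Main

variable {X S : Scheme.{u}} (f : X ⟶ S) [IsProper f] [LocallyOfFinitePresentation f] (s : S)

/-- **the exchange property of the model complex in degree zero near a point** whose fibre has an
étale algebra of global functions -/
theorem exists_unit_presSurj_zero_of_etale
    (het : (f.fiberToSpecResidueField s).appTop.hom.Etale)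
    {V₁ : S.Opens} (hV₁ : IsAffineOpen V₁) (hsV₁ : s ∈ V₁) {F : (↑(f ⁻¹ᵁ V₁) : Scheme.{u}).Modules}
    (M : NModel Γ(S, V₁) (strMap f hV₁) F)
    (hM : M.F₀ = Coh.structureModule M.X₀) :
    ∃ g₀ : Γ(S, V₁), s ∈ S.basicOpen g₀ ∧
      ∀ (B : Type u) [CommRing B] (ψ : Γ(S, V₁) →+* B), IsUnit (ψ g₀) →
        letI : Algebra M.A₀ B := (ψ.comp M.j).toAlgebra
        PresSurj (bcK (B := B) M.D.K) ((0 : ℕ) : ℤ) := by
  classical
  let φ₀ : M.A₀ →+* S.residueField s := (S.evaluation V₁ s hsV₁).hom.comp M.j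
  let P₀ : Ideal M.A₀ := RingHom.ker φ₀
  haveI hP₀ : P₀.IsPrime := RingHom.ker_isPrime φ₀
  haveI : IsNoetherianRing (Localization.AtPrime P₀) :=
    IsLocalization.isNoetherianRing P₀.primeCompl (Localization.AtPrime P₀) inferInstance
  have hf₂ : P₀.primeCompl ≤ (IsUnit.submonoid (S.residueField s)).comap φ₀ := by
    intro x hx
    have h0 : φ₀ x ≠ 0 := fun h0 => hx ((RingHom.mem_ker).2 h0)
    exact h0.isUnit
  let ι₀ : P₀.ResidueField →+* S.residueField s :=
    Ideal.ResidueField.lift P₀ φ₀ le_rfl hf₂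
  let ψ₀ : M.A₀ →+* P₀.ResidueField :=
    (IsLocalRing.residue (Localization.AtPrime P₀)).comp
      (algebraMap M.A₀ (Localization.AtPrime P₀))
  have hι : ι₀.comp ψ₀ = φ₀ := by
    refine RingHom.ext fun x => ?_
    have h1 : ψ₀ x = algebraMap M.A₀ P₀.ResidueField x := by
      rw [IsScalarTower.algebraMap_apply M.A₀ (Localization.AtPrime P₀) P₀.ResidueField]
      rfl
    change ι₀ (ψ₀ x) = φ₀ x
    rw [h1]
    exact Ideal.ResidueField.lift_algebraMap P₀ φ₀ le_rfl hf₂ x
  -- the fibre as a base change of the closed fibre of the model over the local ring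
  have hsqk := isPullback_fibChart f s hV₁ hsV₁
  have h1 : IsPullback (fibChart f s hV₁ hsV₁ ≫ M.q) (f.fiberToSpecResidueField s)
      (M.X₀ ↘ Spec (CommRingCat.of M.A₀)) (Spec.map (CommRingCat.ofHom φ₀)) := by
    have h := hsqk.paste_horiz M.hpb
    rwa [← Spec.map_comp, ← CommRingCat.ofHom_comp] at h
  have hbig : IsPullback (fibChart f s hV₁ hsV₁ ≫ M.q) (f.fiberToSpecResidueField s)
      (M.X₀ ↘ Spec (CommRingCat.of M.A₀))
      (Spec.map (CommRingCat.ofHom ι₀) ≫ Spec.map (CommRingCat.ofHom ψ₀)) := by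
    rw [← Spec.map_comp, ← CommRingCat.ofHom_comp, hι]
    exact h1
  have hlift : IsPullback (pullback.lift (fibChart f s hV₁ hsV₁ ≫ M.q)
        (f.fiberToSpecResidueField s ≫ Spec.map (CommRingCat.ofHom ι₀))
        (by rw [Category.assoc]; exact hbig.w))
      (f.fiberToSpecResidueField s) (gB M ψ₀) (Spec.map (CommRingCat.ofHom ι₀)) := by
    refine IsPullback.of_right (h₁₂ := qB M ψ₀) (h₂₂ := Spec.map (CommRingCat.ofHom ψ₀))
      (v₁₃ := M.X₀ ↘ Spec (CommRingCat.of M.A₀)) ?_ (pullback.lift_snd _ _ _)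
      (IsPullback.of_hasPullback _ _)
    rw [pullback.lift_fst]
    exact hbig
  haveI : IsProper (gB M ψ₀) := inferInstance
  have het₀ : (gB M ψ₀).appTop.hom.Etale :=
    etale_appTop_of_field_baseChange ι₀ (gB M ψ₀) (f.fiberToSpecResidueField s) _ hlift het
  have hPS := presSurj_of_etale_closedFibre' M hM (R := Localization.AtPrime P₀) het₀
  -- freeness of the cokernel at the prime
  haveI : Module.Finite M.A₀ (M.D.K.X ((0 : ℕ) : ℤ)) := (M.D.hff _).1
  haveI : Module.Finite M.A₀ (M.D.K.X (((0 : ℕ) : ℤ) + 1)) := (M.D.hff _).1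
  haveI : Module.Free M.A₀ (M.D.K.X (((0 : ℕ) : ℤ) + 1)) := (M.D.hff _).2
  haveI hfpW : Module.FinitePresentation M.A₀ (Wq M.D.K ((0 : ℕ) : ℤ) (((0 : ℕ) : ℤ) + 1)) :=
    finitePresentation_Wq M.D.K ((0 : ℕ) : ℤ) (((0 : ℕ) : ℤ) + 1)
  haveI : Module.Flat (Localization.AtPrime P₀)
      ((bcK (B := Localization.AtPrime P₀) M.D.K).X (((0 : ℕ) : ℤ) + 1)) :=
    show Module.Flat (Localization.AtPrime P₀)
      ((Localization.AtPrime P₀) ⊗[M.A₀] M.D.K.X (((0 : ℕ) : ℤ) + 1)) from inferInstance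
  have hfl := (presSurj_iff_flat (bcK (B := Localization.AtPrime P₀) M.D.K)
    (((0 : ℕ) : ℤ) - 1) ((0 : ℕ) : ℤ) (((0 : ℕ) : ℤ) + 1) (sub_add_cancel _ 1) rfl).1 hPS
  haveI := hfl
  haveI hflW : Module.Flat (Localization.AtPrime P₀)
      ((Localization.AtPrime P₀) ⊗[M.A₀] Wq M.D.K ((0 : ℕ) : ℤ) (((0 : ℕ) : ℤ) + 1)) :=
    Module.Flat.of_linearEquiv
      (wEquiv (B := Localization.AtPrime P₀) M.D.K ((0 : ℕ) : ℤ) (((0 : ℕ) : ℤ) + 1)).symm
  haveI hfree : Module.Free (Localization.AtPrime P₀)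
      ((Localization.AtPrime P₀) ⊗[M.A₀] Wq M.D.K ((0 : ℕ) : ℤ) (((0 : ℕ) : ℤ) + 1)) :=
    Module.free_of_flat_of_isLocalRing
  have hmem : (⟨P₀, hP₀⟩ : PrimeSpectrum M.A₀) ∈
      Module.freeLocus M.A₀ (Wq M.D.K ((0 : ℕ) : ℤ) (((0 : ℕ) : ℤ) + 1)) :=
    (Module.mem_freeLocus_iff_tensor (⟨P₀, hP₀⟩ : PrimeSpectrum M.A₀)
      (Localization.AtPrime P₀)).2 hfree
  obtain ⟨g, hgP, hproj⟩ := exists_unit_projective
    (Wq M.D.K ((0 : ℕ) : ℤ) (((0 : ℕ) : ℤ) + 1)) (⟨P₀, hP₀⟩ : PrimeSpectrum M.A₀) hmem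
  refine ⟨M.j g, ?_, fun B _ ψ hu => ?_⟩
  · apply (S.evaluation_ne_zero_iff_mem_basicOpen s hsV₁ (M.j g)).1
    intro h0
    exact hgP ((RingHom.mem_ker).2 h0)
  · letI algB : Algebra M.A₀ B := (ψ.comp M.j).toAlgebra
    rw [M.presSurj_iff_flat_Wq ψ ((0 : ℕ) : ℤ)]
    haveI := hproj B hu
    haveI : Module.Flat B (B ⊗[M.A₀] Wq M.D.K ((0 : ℕ) : ℤ) (((0 : ℕ) : ℤ) + 1)) :=
      inferInstance
    exact Module.Flat.of_linearEquiv
      (wEquiv (B := B) M.D.K ((0 : ℕ) : ℤ) (((0 : ℕ) : ℤ) + 1))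

variable (F : X.Modules) [F.IsQuasicoherent] (hfl : FlatMod.IsFlatOver f F)

include hfl in
/-- from the exchange property of the model complex over the non-vanishing locus of a function to
finite local freeness of the direct image and base change there -/
theorem nhd_of_presSurj {V₁ : S.Opens} (hV₁ : IsAffineOpen V₁)
    (M : NModel Γ(S, V₁) (strMap f hV₁) ((Scheme.Modules.pullback (f ⁻¹ᵁ V₁).ι).obj F))
    (g₀ : Γ(S, V₁))
    (hP : ∀ (B : Type u) [CommRing B] (ψ : Γ(S, V₁) →+* B), IsUnit (ψ g₀) →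
        letI : Algebra M.A₀ B := (ψ.comp M.j).toAlgebra
        PresSurj (bcK (B := B) M.D.K) ((0 : ℕ) : ℤ)) :
    FlatMod.IsFinLocFree (((Scheme.Modules.pushforward f).obj F).restrict (S.basicOpen g₀).ι) ∧
      ∀ {X' S' : Scheme.{u}} (g : S' ⟶ S) (g' : X' ⟶ X) (f' : X' ⟶ S')
        (h : IsPullback g' f' f g), (∀ x : S', g x ∈ S.basicOpen g₀) →
        IsIso (CohBC.bc0 f g f' g' h.w F) := by
  refine ⟨?_, ?_⟩
  · haveI : ((Scheme.Modules.pushforward f).obj F).IsQuasicoherent :=
      Groth.Agent.Helper1.PushQc.isQuasicoherent_pushforward f F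
    apply Groth.Agent.Helper7.CohBC.isFinLocFree_restrict_of_affine
    intro W hW hle
    have hleW : W ≤ V₁ := hle.trans (S.basicOpen_le g₀)
    have hu := isUnit_res_of_le_basicOpen g₀ hle hleW
    have hPS := hP Γ(S, W) (S.presheaf.map (homOfLE hleW).op).hom hu
    have hF2 := (M.presSurj_iff_flat_Wq (S.presheaf.map (homOfLE hleW).op).hom
      ((0 : ℕ) : ℤ)).1 hPS
    have hF1 := M.flat_Wq_neg (S.presheaf.map (homOfLE hleW).op).hom
    have hs := isPullback_strMap f hV₁ hW hleW
    letI : (↑(f ⁻¹ᵁ W) : Scheme.{u}).Over (Spec (CommRingCat.of Γ(S, W))) := ⟨strMap f hW⟩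
    obtain ⟨k1, k2⟩ := M.finite_projective_HH_of_flat (S.presheaf.map (homOfLE hleW).op).hom
      (strMap f hW) (X.homOfLE (f.preimage_mono hleW)) hs 0 hF1 hF2
    let e : (Scheme.Modules.pullback (X.homOfLE (f.preimage_mono hleW))).obj
        ((Scheme.Modules.pullback (f ⁻¹ᵁ V₁).ι).obj F) ≅ F.restrict (f ⁻¹ᵁ W).ι :=
      (Groth.Agent.Helper7.ConsMod.pullbackFacIso (X.homOfLE_ι (f.preimage_mono hleW)) F).symm ≪≫
        (Scheme.Modules.restrictFunctorIsoPullback _).symm.app F
    have e' := Groth.Agent.Helper3.FlatTen.HHcongr Γ(S, W) e 0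
    have e2 := Groth.Agent.Helper1.VAc.hh0Equiv Γ(S, W) (↑(f ⁻¹ᵁ W) : Scheme.{u})
      (F.restrict (f ⁻¹ᵁ W).ι)
    have e3 := Groth.Agent.Helper7.BC0.topEquiv f hW rfl F
    haveI := k1
    haveI := k2
    exact ⟨Module.Finite.equiv ((e'.trans e2).trans e3),
      Module.Projective.of_equiv ((e'.trans e2).trans e3)⟩
  · intro X' S' g g' f' h hx
    apply Groth.Agent.Helper7.BC0.isIso_bc0_of_local f g g' f' h F
    intro x
    have hW : IsAffineOpen (S.basicOpen g₀) := hV₁.basicOpen g₀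
    refine ⟨S.basicOpen g₀, hW, hx x, fun V' hV' => ?_⟩
    have hleW : S.basicOpen g₀ ≤ V₁ := S.basicOpen_le g₀
    have hs := isPullback_strMap f hV₁ hW hleW
    have hu : IsUnit ((S.presheaf.map (homOfLE hleW).op).hom g₀) :=
      S.toRingedSpace.isUnit_res_basicOpen g₀
    letI : (↑(f ⁻¹ᵁ S.basicOpen g₀) : Scheme.{u}).Over
        (Spec (CommRingCat.of Γ(S, S.basicOpen g₀))) := ⟨strMap f hW⟩
    let e₀ : (Scheme.Modules.pullback (X.homOfLE (f.preimage_mono hleW))).obj
        ((Scheme.Modules.pullback (f ⁻¹ᵁ V₁).ι).obj F) ≅ F.restrict (f ⁻¹ᵁ S.basicOpen g₀).ι :=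
      (Groth.Agent.Helper7.ConsMod.pullbackFacIso (X.homOfLE_ι (f.preimage_mono hleW)) F).symm ≪≫
        (Scheme.Modules.restrictFunctorIsoPullback _).symm.app F
    obtain ⟨ι₀, hfin, U', hcovU, haffU, hflW⟩ := M.flatW_of_presSurj
      (S.presheaf.map (homOfLE hleW).op).hom (strMap f hW)
      (X.homOfLE (f.preimage_mono hleW)) hs 0
      (hP Γ(S, S.basicOpen g₀) (S.presheaf.map (homOfLE hleW).op).hom hu)
      (F.restrict (f ⁻¹ᵁ S.basicOpen g₀).ι) e₀
    haveI := hfin
    haveI : (F.restrict (f ⁻¹ᵁ S.basicOpen g₀).ι).IsQuasicoherent := inferInstance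
    have hflr : FlatMod.IsFlatOver (strMap f hW) (F.restrict (f ⁻¹ᵁ S.basicOpen g₀).ι) :=
      Groth.Agent.Lib.Helper4.ChartSq1.isFlatOver_restrict f hW F hfl
    exact Groth.Agent.Helper7.BC0.bijAt_of_flatW f hW rfl F U' g g' f' h hcovU haffU
      (Groth.Agent.Helper7.BC0.flat_Co Γ(S, S.basicOpen g₀)
        (F.restrict (f ⁻¹ᵁ S.basicOpen g₀).ι) U' hflr haffU 0)
      (Groth.Agent.Helper7.BC0.flat_Co Γ(S, S.basicOpen g₀)
        (F.restrict (f ⁻¹ᵁ S.basicOpen g₀).ι) U' hflr haffU 1) hflW V' hV'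

end Main

section Final

variable {X S : Scheme.{u}} (f : X ⟶ S) [IsProper f] [LocallyOfFinitePresentation f] [Flat f]
  (s : S)

/-- **cohomological flatness in degree zero near a point whose fibre has an étale algebra of
global functions**: the direct image of the structure sheaf is finite locally free near the point
and its formation commutes with every base change there -/
theorem exists_nhd_of_etale (het : (f.fiberToSpecResidueField s).appTop.hom.Etale) :
    ∃ U : S.Opens, s ∈ U ∧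
      FlatMod.IsFinLocFree
        (((Scheme.Modules.pushforward f).obj (Coh.structureModule X)).restrict U.ι) ∧
      ∀ {X' S' : Scheme.{u}} (g : S' ⟶ S) (g' : X' ⟶ X) (f' : X' ⟶ S')
        (h : IsPullback g' f' f g), (∀ x : S', g x ∈ U) →
        IsIso (CohBC.bc0 f g f' g' h.w (Coh.structureModule X)) := by
  obtain ⟨V₁, hV₁, hsV₁, M, hM⟩ := exists_chart_unit_nmodel f s
  obtain ⟨g₀, hs₀, hP⟩ := exists_unit_presSurj_zero_of_etale f s het hV₁ hsV₁ M hM
  have hfl : FlatMod.IsFlatOver f (Coh.structureModule X) := h0_isFlatOver_structureModule f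
  obtain ⟨h1, h2⟩ := nhd_of_presSurj f (Coh.structureModule X) hfl hV₁ M g₀ hP
  exact ⟨S.basicOpen g₀, hs₀, h1, h2⟩

/-- the algebra form of the hypothesis -/
theorem etale_appTop_of_algebra_etale
    (het : Algebra.Etale (S.residueField s) Γ(f.fiber s, ⊤)) :
    (f.fiberToSpecResidueField s).appTop.hom.Etale := by
  have h1 : ((f.fiberToSpecResidueField s).appTop.hom.comp
      (Scheme.ΓSpecIso (S.residueField s)).inv.hom).Etale := RingHom.etale_algebraMap.2 het
  have h2 := RingHom.Etale.stableUnderComposition _ _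
    (RingHom.Etale.of_bijective
      (ConcreteCategory.bijective_of_isIso (Scheme.ΓSpecIso (S.residueField s)).hom)) h1
  have h3 : ((f.fiberToSpecResidueField s).appTop.hom.comp
      (Scheme.ΓSpecIso (S.residueField s)).inv.hom).comp
        (Scheme.ΓSpecIso (S.residueField s)).hom.hom =
      (f.fiberToSpecResidueField s).appTop.hom := by
    refine RingHom.ext fun x => ?_
    have h4 : (Scheme.ΓSpecIso (S.residueField s)).inv.hom
        ((Scheme.ΓSpecIso (S.residueField s)).hom.hom x) = x :=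
      congrArg (fun ψ => ψ.hom x) (Scheme.ΓSpecIso (S.residueField s)).hom_inv_id
    change (f.fiberToSpecResidueField s).appTop.hom
      ((Scheme.ΓSpecIso (S.residueField s)).inv.hom
        ((Scheme.ΓSpecIso (S.residueField s)).hom.hom x)) = _
    rw [h4]
  rw [h3] at h2
  exact h2

/-- **freeness of the direct image of the structure sheaf near the point** -/
theorem exists_free_nhd_of_etale (het : (f.fiberToSpecResidueField s).appTop.hom.Etale) :
    ∃ (U : S.Opens) (m : ℕ), s ∈ U ∧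
      Nonempty (((Scheme.Modules.pushforward f).obj (Coh.structureModule X)).restrict U.ι ≅
        FlatMod.freeMod (↑U) m) := by
  obtain ⟨U, hsU, hflf, -⟩ := exists_nhd_of_etale f s het
  obtain ⟨W, hW, n, hsW, ⟨e⟩⟩ := Groth.Agent.Lib.Helper5.Shrink.exists_free_nhd _ hflf s hsU
  refine ⟨W, n, hsW, ⟨?_⟩⟩
  exact (Scheme.Modules.restrictFunctorCongr (S.homOfLE_ι hW).symm).app _ ≪≫
    (Scheme.Modules.restrictFunctorComp (S.homOfLE hW) U.ι).app _ ≪≫ e

end Final

end Groth.Agent.Helper7.EtH0
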