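import Mathlib
import Groth.Agent.Lib.Lead.BCU1
import Groth.Agent.Lib.Helper7.GenBC.H0Alg

set_option linter.style.haveILetI false
set_option linter.unusedVariables false
set_option linter.unusedSectionVars false
set_option autoImplicit false
set_option backward.isDefEq.respectTransparency.types false
set_option backward.isDefEq.respectTransparency false
set_option synthInstance.maxHeartbeats 400000
set_option maxHeartbeats 1600000

universe u

/-! helper7: a finite projective algebra all of whose fibres over the residue fields of the base are unramified is étale (fibrewise criterion through the module of differentials and Nakayama), in the form used with base change data -/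

open TensorProduct
open Groth.Agent.Lead.BCU
open Groth.Agent.Helper7.GenBC

namespace Groth.Agent.Helper7.EtH0

section Alg

/-- if a commutative square of rings exhibits `B` as the base change of `E` along `A → K` and
`B` is unramified over `K`, then the differentials of `E` over `A` die over `K` -/
theorem subsingleton_tensor_kaehler_of_isBC {A K E B : Type u} [CommRing A] [CommRing K]
    [CommRing E] [CommRing B] (φ : A →+* K) (α : A →+* E) (ρ : E →+* B) (β : K →+* B)
    (hcomm : ρ.comp α = β.comp φ)
    (hbc : letI := α.toAlgebra; letI := β.toAlgebra; IsBC φ (fun m : E => ρ m))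
    (hunr : β.FormallyUnramified) :
    letI := φ.toAlgebra
    letI := α.toAlgebra
    Subsingleton (K ⊗[A] Ω[E⁄A]) := by
  letI aK : Algebra A K := φ.toAlgebra
  letI aE : Algebra A E := α.toAlgebra
  letI aKB : Algebra K B := β.toAlgebra
  letI aEB : Algebra E B := ρ.toAlgebra
  letI aAB : Algebra A B := (β.comp φ).toAlgebra
  haveI t1 : IsScalarTower A K B := IsScalarTower.of_algebraMap_eq' rfl
  haveI t2 : IsScalarTower A E B := IsScalarTower.of_algebraMap_eq' hcomm.symm
  haveI hP : Algebra.IsPushout A K E B := by
    obtain ⟨l', hl', hb⟩ := hbc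
    refine ⟨IsBaseChange.of_equiv hb.equiv (fun x => ?_)⟩
    rw [IsBaseChange.equiv_tmul, one_smul]
    exact hl' x
  haveI : Algebra.FormallyUnramified K B := hunr
  haveI : Subsingleton Ω[B⁄K] := inferInstance
  exact (KaehlerDifferential.tensorKaehlerEquivBase A K E B).toEquiv.subsingleton

/-- **fibrewise criterion for unramifiedness of a finite algebra** -/
theorem formallyUnramified_of_fibres {A E : Type u} [CommRing A] [CommRing E] [Algebra A E]
    [Module.Finite A E]
    (H : ∀ (p : Ideal A) [p.IsPrime], ∃ (K : Type u) (iK : CommRing K) (iKn : Nontrivial K)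
      (φ : A →+* K), (∀ a ∈ p, φ a = 0) ∧ (∀ a, a ∉ p → IsUnit (φ a)) ∧
      (letI := φ.toAlgebra; Subsingleton (K ⊗[A] Ω[E⁄A]))) :
    Algebra.FormallyUnramified A E := by
  rw [Algebra.formallyUnramified_iff]
  by_contra hns
  haveI hnt : Nontrivial Ω[E⁄A] := not_subsingleton_iff_nontrivial.1 hns
  haveI : Module.Finite E Ω[E⁄A] := inferInstance
  haveI : Module.Finite A Ω[E⁄A] := Module.Finite.trans E _
  obtain ⟨p, hp⟩ := Module.nonempty_support_of_nontrivial (R := A) (M := Ω[E⁄A])
  have hres := (Module.mem_support_iff_nontrivial_residueField_tensorProduct p).1 hp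
  obtain ⟨K, iK, iKn, φ, h0, h1, hsub⟩ := H p.asIdeal
  letI := φ.toAlgebra
  haveI hK : Nontrivial (K ⊗[A] Ω[E⁄A]) :=
    nontrivial_tensor_of_residueField p.asIdeal K h0 h1 _ hres
  exact not_subsingleton _ hsub

/-- **a finite projective algebra with unramified fibres is étale** -/
theorem etale_of_finite_projective_of_fibres {A E : Type u} [CommRing A] [CommRing E]
    [Algebra A E] [Module.Finite A E] [Module.Projective A E]
    (H : ∀ (p : Ideal A) [p.IsPrime], ∃ (K : Type u) (iK : CommRing K) (iKn : Nontrivial K)
      (φ : A →+* K), (∀ a ∈ p, φ a = 0) ∧ (∀ a, a ∉ p → IsUnit (φ a)) ∧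
      (letI := φ.toAlgebra; Subsingleton (K ⊗[A] Ω[E⁄A]))) :
    Algebra.Etale A E := by
  haveI := formallyUnramified_of_fibres H
  haveI : Module.FinitePresentation A E := Module.finitePresentation_of_projective A E
  haveI : Algebra.FinitePresentation A E := inferInstance
  haveI : Module.Flat A E := inferInstance
  exact Algebra.Etale.of_formallyUnramified_of_flat

end Alg

end Groth.Agent.Helper7.EtH0
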