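import Mathlib
import Groth.Prelude.Def_CohCmp
import Groth.Agent.Lib.Helper7.EtH0.Main
import Groth.Agent.Lib.Helper7.EtH0.GeomRed
import Groth.Agent.Lib.Helper7.EtH0.SteinAlg
import Groth.Agent.Lib.Helper7.GenBC.H0Iso
import Groth.Agent.Lib.Lead.FBC2

set_option linter.style.haveILetI false
set_option linter.unusedVariables false
set_option linter.unusedSectionVars false
set_option autoImplicit false
set_option backward.isDefEq.respectTransparency.types false
set_option backward.isDefEq.respectTransparency false
set_option synthInstance.maxHeartbeats 400000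
set_option maxHeartbeats 1600000

universe u

/-! helper7: for a proper flat finitely presented morphism whose fibres have étale algebras of global functions, the ring of functions over the preimage of a small affine open of the base is a finite étale algebra; the Stein factorization is finite étale over the base -/

open CategoryTheory CategoryTheory.Limits Opposite TopologicalSpace AlgebraicGeometry
open AlgebraicGeometry.Scheme.Modules TensorProduct
open Groth.Agent.Helper1
open Groth.Agent.Lead.BCU
open Groth.Agent.Helper7.GenBC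

namespace Groth.Agent.Helper7.EtH0

section Affine

variable {X S : Scheme.{u}} (f : X ⟶ S) [IsProper f]

/-- **over a small affine open the functions of the total space form a finite étale algebra over
the functions of the base** -/
theorem etale_app_of_affine_le
    (het : ∀ t : S, (f.fiberToSpecResidueField t).appTop.hom.Etale)
    {U : S.Opens}
    (hflf : FlatMod.IsFinLocFree
      (((Scheme.Modules.pushforward f).obj (Coh.structureModule X)).restrict U.ι))
    (hbc : ∀ {X' S' : Scheme.{u}} (g : S' ⟶ S) (g' : X' ⟶ X) (f' : X' ⟶ S')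
        (hp : IsPullback g' f' f g), (∀ x : S', g x ∈ U) →
        IsIso (CohBC.bc0 f g f' g' hp.w (Coh.structureModule X)))
    {W : S.Opens} (hW : IsAffineOpen W) (hWU : W ≤ U) :
    letI := (f.app W).hom.toAlgebra
    Module.Finite Γ(S, W) Γ(X, f ⁻¹ᵁ W) ∧ (f.app W).hom.Etale := by
  haveI hq : (Coh.structureModule X).IsQuasicoherent :=
    IdealModL.isQuasicoherent_structureModule
  haveI hpq : ((Scheme.Modules.pushforward f).obj (Coh.structureModule X)).IsQuasicoherent :=
    Groth.Agent.Helper1.PushQc.isQuasicoherent_pushforward f _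
  obtain ⟨hfin, hproj⟩ := finite_projective_sections_of_isFinLocFree_restrict
    ((Scheme.Modules.pushforward f).obj (Coh.structureModule X)) U hflf W hW hWU
  letI algE : Algebra Γ(S, W) Γ(X, f ⁻¹ᵁ W) := (f.app W).hom.toAlgebra
  let toE : Γ((Scheme.Modules.pushforward f).obj (Coh.structureModule X), W) → Γ(X, f ⁻¹ᵁ W) :=
    fun m => m
  let ofE : Γ(X, f ⁻¹ᵁ W) → Γ((Scheme.Modules.pushforward f).obj (Coh.structureModule X), W) :=
    fun m => m
  let L : Γ((Scheme.Modules.pushforward f).obj (Coh.structureModule X), W) ≃ₗ[Γ(S, W)]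
      Γ(X, f ⁻¹ᵁ W) :=
    { toFun := toE
      invFun := ofE
      map_add' := fun _ _ => rfl
      map_smul' := fun a m => rfl
      left_inv := fun _ => rfl
      right_inv := fun _ => rfl }
  haveI hfinE : Module.Finite Γ(S, W) Γ(X, f ⁻¹ᵁ W) := by
    haveI := hfin
    exact Module.Finite.equiv L
  haveI hprojE : Module.Projective Γ(S, W) Γ(X, f ⁻¹ᵁ W) := by
    haveI := hproj
    exact Module.Projective.of_equiv L
  refine ⟨hfinE, ?_⟩
  have hE : Algebra.Etale Γ(S, W) Γ(X, f ⁻¹ᵁ W) := by
    apply etale_of_finite_projective_of_fibres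
    intro p hp
    let x : PrimeSpectrum Γ(S, W) := ⟨p, hp⟩
    let t : S := hW.fromSpec (show ↥(Spec Γ(S, W)) from x)
    have htW : t ∈ W := by
      have h1 : t ∈ Set.range hW.fromSpec := ⟨_, rfl⟩
      rw [hW.range_fromSpec] at h1
      exact h1
    have hpb : IsPullback (f.fiberι t) (f.fiberToSpecResidueField t) f
        (S.fromSpecResidueField t) := IsPullback.of_hasPullback f (S.fromSpecResidueField t)
    have hx : ∀ z : ↥(Spec (S.residueField t)), S.fromSpecResidueField t z = t := fun z =>
      Scheme.fromSpecResidueField_apply t z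
    have eV : (⊤ : (Spec (S.residueField t)).Opens) ≤ (S.fromSpecResidueField t) ⁻¹ᵁ W := by
      intro z _
      change S.fromSpecResidueField t z ∈ W
      rw [hx z]
      exact htW
    haveI hiso : IsIso (bcMap f (S.fromSpecResidueField t) (f.fiberι t)
        (f.fiberToSpecResidueField t) hpb (Coh.structureModule X)) :=
      hbc (S.fromSpecResidueField t) (f.fiberι t) (f.fiberToSpecResidueField t) hpb
        (fun z => by rw [hx z]; exact hWU htW)
    have hV' : IsAffineOpen (⊤ : (Spec (S.residueField t)).Opens) := isAffineOpen_top _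
    have hbcK := isBC_unitRes_of_bijective f (S.fromSpecResidueField t) (f.fiberι t)
      (f.fiberToSpecResidueField t) hpb (Coh.structureModule X) hW hV' eV
      (h0_bijective_app_of_isIso _ ⊤)
    have e'' := preimage_le f (S.fromSpecResidueField t) (f.fiberι t)
      (f.fiberToSpecResidueField t) hpb eV
    have hgen := Groth.Agent.Helper1.PullGen.isGen_σ (f.fiberι t)
      (AmpleLib.isGen_one' (f ⁻¹ᵁ W))
    have hgen' := hgen ((f.fiberToSpecResidueField t) ⁻¹ᵁ ⊤) e''
    have hφ : ∀ a : Γ(S, W), ((S.fromSpecResidueField t).appLE W ⊤ eV).hom a =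
        (Scheme.ΓSpecIso (S.residueField t)).inv.hom ((S.evaluation W t htW).hom a) := by
      intro a
      rw [fromSpecResidueField_appLE t hW htW eV]
      rfl
    -- the section generating the pullback of the structure sheaf on the fibre
    let n₀ : Γ((Scheme.Modules.pushforward f).obj (Coh.structureModule X), W) :=
      (show Γ(Coh.structureModule X, f ⁻¹ᵁ W) from TwForm.one' (f ⁻¹ᵁ W))
    let s₁ : Γ((Scheme.Modules.pullback (f.fiberι t)).obj (Coh.structureModule X),
        (f.fiberToSpecResidueField t) ⁻¹ᵁ ⊤) :=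
      unitRes (f.fiberι t) (Coh.structureModule X) e'' n₀
    have hgen'' : Function.Bijective
        (fun r : Γ(f.fiber t, (f.fiberToSpecResidueField t) ⁻¹ᵁ ⊤) => r • s₁) := hgen'
    -- the commutative square of rings
    have hcommC : f.app W ≫ (f.fiberι t).appLE (f ⁻¹ᵁ W)
        ((f.fiberToSpecResidueField t) ⁻¹ᵁ ⊤) e'' =
        (S.fromSpecResidueField t).appLE W ⊤ eV ≫ (f.fiberToSpecResidueField t).app ⊤ := by
      rw [← Scheme.Hom.comp_appLE,
        ← Scheme.Hom.appLE_eq_app (f := f.fiberToSpecResidueField t),
        Scheme.Hom.appLE_comp_appLE]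
      exact h0_appLE_congr hpb.w W _ _ _
    have hcomm : ((f.fiberι t).appLE (f ⁻¹ᵁ W)
        ((f.fiberToSpecResidueField t) ⁻¹ᵁ ⊤) e'').hom.comp (f.app W).hom =
        ((f.fiberToSpecResidueField t).app ⊤).hom.comp
          ((S.fromSpecResidueField t).appLE W ⊤ eV).hom :=
      congrArg CommRingCat.Hom.hom hcommC
    -- the base change property of the ring map to the functions of the fibre
    letI algKB : Algebra Γ(Spec (S.residueField t), ⊤)
        Γ(f.fiber t, (f.fiberToSpecResidueField t) ⁻¹ᵁ ⊤) :=
      ((f.fiberToSpecResidueField t).app ⊤).hom.toAlgebra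
    let ν : Γ(f.fiber t, (f.fiberToSpecResidueField t) ⁻¹ᵁ ⊤) ≃ₗ[Γ(Spec (S.residueField t), ⊤)]
        Γ((pushforward (f.fiberToSpecResidueField t)).obj
          ((Scheme.Modules.pullback (f.fiberι t)).obj (Coh.structureModule X)),
          (⊤ : (Spec (S.residueField t)).Opens)) :=
      { toFun := fun b => (show Γ((pushforward (f.fiberToSpecResidueField t)).obj
            ((Scheme.Modules.pullback (f.fiberι t)).obj (Coh.structureModule X)),
            (⊤ : (Spec (S.residueField t)).Opens)) from b • s₁)
        map_add' := fun b b' => add_smul b b' s₁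
        map_smul' := fun c b => by
          change ((((f.fiberToSpecResidueField t).app ⊤).hom c) * b) • s₁ = _
          rw [mul_smul]
          rfl
        invFun := Function.surjInv hgen''.2
        left_inv := Function.leftInverse_surjInv hgen''
        right_inv := Function.rightInverse_surjInv hgen''.2 }
    have hbcρ : IsBC ((S.fromSpecResidueField t).appLE W ⊤ eV).hom
        (fun m : Γ(X, f ⁻¹ᵁ W) => ((f.fiberι t).appLE (f ⁻¹ᵁ W)
          ((f.fiberToSpecResidueField t) ⁻¹ᵁ ⊤) e'').hom m) := by
      refine IsBC.of_equiv L.symm ν ?_ hbcK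
      intro m
      change ((f.fiberι t).appLE (f ⁻¹ᵁ W)
        ((f.fiberToSpecResidueField t) ⁻¹ᵁ ⊤) e'').hom m • s₁ =
        unitRes (f.fiberι t) (Coh.structureModule X) e''
          (show Γ(Coh.structureModule X, f ⁻¹ᵁ W) from m)
      have h1 := Groth.Agent.Lead.FBC.unitRes_smul (f.fiberι t) (Coh.structureModule X) e'' m
        (TwForm.one' (f ⁻¹ᵁ W))
      rw [TwForm.smul_one'] at h1
      exact h1.symm
    have hunr : ((f.fiberToSpecResidueField t).app ⊤).hom.FormallyUnramified := by
      have h2 : (f.fiberToSpecResidueField t).appTop.hom.Etale := het t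
      have h3 : Algebra.Etale Γ(Spec (S.residueField t), ⊤)
          Γ(f.fiber t, (f.fiberToSpecResidueField t) ⁻¹ᵁ ⊤) := RingHom.etale_algebraMap.1 h2
      haveI := h3
      exact (inferInstance : Algebra.FormallyUnramified Γ(Spec (S.residueField t), ⊤)
          Γ(f.fiber t, (f.fiberToSpecResidueField t) ⁻¹ᵁ ⊤))
    have hsub := subsingleton_tensor_kaehler_of_isBC
      ((S.fromSpecResidueField t).appLE W ⊤ eV).hom (f.app W).hom
      ((f.fiberι t).appLE (f ⁻¹ᵁ W) ((f.fiberToSpecResidueField t) ⁻¹ᵁ ⊤) e'').hom
      ((f.fiberToSpecResidueField t).app ⊤).hom hcomm hbcρ hunr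
    refine ⟨Γ(Spec (S.residueField t), ⊤), inferInstance, ?_,
      ((S.fromSpecResidueField t).appLE W ⊤ eV).hom, ?_, ?_, hsub⟩
    · have hinj : Function.Injective (Scheme.ΓSpecIso (S.residueField t)).inv.hom := by
        intro a b hab
        have h1 : ∀ c, (Scheme.ΓSpecIso (S.residueField t)).hom.hom
            ((Scheme.ΓSpecIso (S.residueField t)).inv.hom c) = c := fun c =>
          congrArg (fun ψ => ψ.hom c) (Scheme.ΓSpecIso (S.residueField t)).inv_hom_id
        rw [← h1 a, hab, h1 b]
      exact hinj.nontrivial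
    · intro a ha
      rw [hφ a]
      have h3 : (S.evaluation W t htW).hom a = 0 :=
        (S.evaluation_eq_zero_iff_notMem_basicOpen t htW a).2 (fun hmem =>
          (mem_basicOpen_fromSpec_iff hW x a).1 hmem ha)
      rw [h3, map_zero]
    · intro a ha
      rw [hφ a]
      have h3 : (S.evaluation W t htW).hom a ≠ 0 :=
        (S.evaluation_ne_zero_iff_mem_basicOpen t htW a).2
          ((mem_basicOpen_fromSpec_iff hW x a).2 ha)
      exact (IsUnit.mk0 _ h3).map (Scheme.ΓSpecIso (S.residueField t)).inv.hom
  exact RingHom.etale_algebraMap.2 hE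

end Affine

section Global

variable {X S : Scheme.{u}} (f : X ⟶ S) [IsProper f] [LocallyOfFinitePresentation f] [Flat f]

/-- **the Stein factorization of a proper flat finitely presented morphism whose fibres have étale
algebras of global functions is étale over the base** -/
theorem etale_fromNormalization
    (het : ∀ t : S, (f.fiberToSpecResidueField t).appTop.hom.Etale) :
    Etale f.fromNormalization := by
  have hex : ∀ s : S, ∃ W : S.Opens, IsAffineOpen W ∧ s ∈ W ∧
      (letI := (f.app W).hom.toAlgebra
       Module.Finite Γ(S, W) Γ(X, f ⁻¹ᵁ W) ∧ (f.app W).hom.Etale) := by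
    intro s
    obtain ⟨U, hsU, hflf, hbc⟩ := exists_nhd_of_etale f s (het s)
    obtain ⟨W, hWaff, hsW, hWU⟩ := Opens.isBasis_iff_nbhd.mp S.isBasis_affineOpens hsU
    exact ⟨W, hWaff, hsW, etale_app_of_affine_le f het hflf hbc hWaff hWU⟩
  choose W hWaff hsW hW using hex
  have hcov : iSup W = ⊤ := by
    rw [eq_top_iff]
    intro s _
    exact Opens.mem_iSup.2 ⟨s, hsW s⟩
  rw [IsZariskiLocalAtTarget.iff_of_iSup_eq_top (P := @Etale) W hcov]
  intro s
  let U : S.affineOpens := ⟨W s, hWaff s⟩
  let e := IsOpenImmersion.isoOfRangeEq (f.fromNormalization ⁻¹ᵁ U.1).ι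
      (f.normalizationOpenCover.f U)
      (by simpa using congr($(f.fromNormalization_preimage U).1))
  change Etale (f.fromNormalization ∣_ U.1)
  rw [← MorphismProperty.cancel_left_of_respectsIso @Etale e.inv,
    ← MorphismProperty.cancel_right_of_respectsIso @Etale _ U.2.isoSpec.hom]
  have hthis : (f.normalizationDiagramMap.app (.op U.1)).hom.Etale := by
    letI := (f.app U.1).hom.toAlgebra
    change (algebraMap Γ(S, U.1) (integralClosure Γ(S, U.1) Γ(X, f ⁻¹ᵁ U.1))).Etale
    obtain ⟨hfin, hetW⟩ := hW s
    haveI : Module.Finite Γ(S, U.1) Γ(X, f ⁻¹ᵁ U.1) := hfin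
    haveI hE : Algebra.Etale Γ(S, U.1) Γ(X, f ⁻¹ᵁ U.1) := RingHom.etale_algebraMap.1 hetW
    haveI : Algebra.IsIntegral Γ(S, U.1) Γ(X, f ⁻¹ᵁ U.1) := inferInstance
    have htop : integralClosure Γ(S, U.1) Γ(X, f ⁻¹ᵁ U.1) = ⊤ :=
      integralClosure_eq_top_iff.2 inferInstance
    let eq1 : (integralClosure Γ(S, U.1) Γ(X, f ⁻¹ᵁ U.1)) ≃ₐ[Γ(S, U.1)] Γ(X, f ⁻¹ᵁ U.1) :=
      (Subalgebra.equivOfEq _ _ htop).trans Subalgebra.topEquiv
    haveI : Algebra.Etale Γ(S, U.1) (integralClosure Γ(S, U.1) Γ(X, f ⁻¹ᵁ U.1)) :=
      Algebra.Etale.of_equiv eq1.symm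
    exact RingHom.etale_algebraMap.2 inferInstance
  convert! (HasRingHomProperty.Spec_iff (P := @Etale)).mpr hthis
  rw [← cancel_mono U.2.fromSpec]
  simp [IsAffineOpen.isoSpec_hom, e, Scheme.Hom.ι_fromNormalization]

/-- **the Stein factorization is finite étale** -/
theorem isFinite_etale_fromNormalization
    (het : ∀ t : S, (f.fiberToSpecResidueField t).appTop.hom.Etale) :
    IsFinite f.fromNormalization ∧ Etale f.fromNormalization := by
  haveI hE := etale_fromNormalization f het
  refine ⟨?_, hE⟩
  rw [IsFinite.iff_isIntegralHom_and_locallyOfFiniteType]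
  exact ⟨inferInstance, inferInstance⟩

/-- the form with geometric points: the hypothesis that all base changes to algebraically closed
fields are reduced -/
theorem isFinite_etale_fromNormalization_of_reduced
    (hred : ∀ (Ω : Type u) [Field Ω] [IsAlgClosed Ω] (σ : Spec (CommRingCat.of Ω) ⟶ S),
      IsReduced (pullback f σ)) :
    IsFinite f.fromNormalization ∧ Etale f.fromNormalization := by
  apply isFinite_etale_fromNormalization
  intro t
  haveI : IsProper (f.fiberToSpecResidueField t) :=
    inferInstanceAs (IsProper (pullback.snd f (S.fromSpecResidueField t)))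
  have hpb : IsPullback (f.fiberι t) (f.fiberToSpecResidueField t) f
      (S.fromSpecResidueField t) := IsPullback.of_hasPullback f (S.fromSpecResidueField t)
  have hpaste := (IsPullback.of_hasPullback (f.fiberToSpecResidueField t)
    (Spec.map (CommRingCat.ofHom (algebraMap (S.residueField t)
      (AlgebraicClosure (S.residueField t)))))).paste_horiz hpb
  haveI := hred (AlgebraicClosure (S.residueField t))
    (Spec.map (CommRingCat.ofHom (algebraMap (S.residueField t)
      (AlgebraicClosure (S.residueField t)))) ≫ S.fromSpecResidueField t)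
  have hred' : IsReduced (pullback (f.fiberToSpecResidueField t)
      (Spec.map (CommRingCat.ofHom (algebraMap (S.residueField t)
        (AlgebraicClosure (S.residueField t)))))) :=
    isReduced_of_isOpenImmersion hpaste.isoPullback.hom
  exact etale_appTop_of_isReduced_baseChange
    (algebraMap (S.residueField t) (AlgebraicClosure (S.residueField t)))
    (f.fiberToSpecResidueField t) hred'

end Global

end Groth.Agent.Helper7.EtH0
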