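import Mathlib
import Groth.Prelude.Def_CohCmp
import Groth.Prelude.Def_ega3
import Groth.Agent.Lib.Helper7.EtH0.Main
import Groth.Agent.Lib.Helper7.GeomConn.H0One
import Groth.Agent.Lib.Helper7.GenBC.H0Iso
import Groth.Agent.Lib.Helper4.FibSurj1

set_option linter.style.haveILetI false
set_option linter.unusedVariables false
set_option linter.unusedSectionVars false
set_option autoImplicit false
set_option backward.isDefEq.respectTransparency.types false
set_option backward.isDefEq.respectTransparency false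
set_option synthInstance.maxHeartbeats 400000
set_option maxHeartbeats 1600000

universe u

/-! helper7: cohomological flatness in degree zero over a Noetherian local base when the closed fibre has an étale algebra of global functions: the functor `M ↦ H^0(X, O_X ⊗ M)` is exact -/

open CategoryTheory CategoryTheory.Limits Opposite TopologicalSpace AlgebraicGeometry
open AlgebraicGeometry.Scheme.Modules TensorProduct
open Groth.Agent.Lib.Helper4.HomEl1
open Groth.Agent.Lib.Helper4.ExchAlg1
open Groth.Agent.Lib.Helper4.ExchAlg2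
open Groth.Agent.Lib.Helper4.TruncAlg1
open Groth.Agent.Lib.Helper4.MumBC2
open Groth.Agent.Helper7.GenBC

namespace Groth.Agent.Helper7.EtH0

section Alg

variable {A : Type u} [CommRing A] (K : CochainComplex (ModuleCat.{u} A) ℤ)

/-- if `T^p` vanishes universally then `T^{p+1}` preserves injections -/
theorem presInj_of_uvan (o p q r : ℤ) (hop : o + 1 = p) (hpq : p + 1 = q) (hqr : q + 1 = r)
    [Module.Flat A (K.X q)] (h : UVan K p) : PresInj K q := by
  intro M' M j hj
  rw [injective_iff_map_eq_zero]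
  intro c hc
  obtain ⟨x, rfl⟩ := cls_surjective (KM K M') q r hqr c
  let M'' : ModuleCat.{u} A := ModuleCat.of A (M ⧸ LinearMap.range j.hom)
  let g : M ⟶ M'' := ModuleCat.ofHom (LinearMap.range j.hom).mkQ
  have hg : Function.Surjective g.hom := Submodule.mkQ_surjective _
  have hex : Function.Exact j.hom g.hom := LinearMap.exact_map_mkQ_range j.hom
  have hgj : g.hom ∘ₗ j.hom = 0 := by
    apply LinearMap.ext
    intro m
    exact (hex (j.hom m)).2 ⟨m, rfl⟩
  have hdd : (K.d p q).hom ∘ₗ (K.d o p).hom = 0 := by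
    apply LinearMap.ext
    intro w
    exact ConcreteCategory.congr_hom (K.d_comp_d o p q) w
  have h0 : cls (KM K M) q r hqr
      ⟨((CohIII.tensorMap K j).f q).hom x.1, map_mem (CohIII.tensorMap K j) q r x⟩ = 0 :=
    (map_cls (CohIII.tensorMap K j) q r hqr x).symm.trans hc
  obtain ⟨y, hy'⟩ : ∃ y : (K.X p) ⊗[A] M,
      (K.d p q).hom.rTensor M y = j.hom.lTensor (K.X q) x.1 :=
    (cls_eq_zero_iff (KM K M) p q r hpq hqr _).1 h0
  have hz'' : g.hom.lTensor (K.X p) y ∈ Zs (KM K M'') p q := by
    change (K.d p q).hom.rTensor M'' (g.hom.lTensor (K.X p) y) = 0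
    rw [← lr_comm, hy', ← LinearMap.comp_apply, ← LinearMap.lTensor_comp, hgj,
      LinearMap.lTensor_zero, LinearMap.zero_apply]
  have hcz : cls (KM K M'') p q hpq ⟨_, hz''⟩ = 0 := by
    haveI : Subsingleton ((KM K M'').homology p) := ModuleCat.subsingleton_of_isZero (h M'')
    exact Subsingleton.elim _ _
  obtain ⟨w'', hw2⟩ : ∃ w'' : (K.X o) ⊗[A] M'',
      (K.d o p).hom.rTensor M'' w'' = g.hom.lTensor (K.X p) y :=
    (cls_eq_zero_iff (KM K M'') o p q hop hpq _).1 hcz
  obtain ⟨w, hw⟩ := LinearMap.lTensor_surjective (K.X o) hg w''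
  have hker : g.hom.lTensor (K.X p) (y - (K.d o p).hom.rTensor M w) = 0 := by
    rw [map_sub, lr_comm, hw, hw2, sub_self]
  obtain ⟨y', hy''⟩ := (lTensor_exact (K.X p) hex hg _).1 hker
  have hd2 : (K.d p q).hom.rTensor M ((K.d o p).hom.rTensor M w) = 0 := by
    rw [← LinearMap.comp_apply, ← LinearMap.rTensor_comp, hdd, LinearMap.rTensor_zero,
      LinearMap.zero_apply]
  have hdx : (K.d p q).hom.rTensor M' y' = x.1 := by
    apply Module.Flat.lTensor_preserves_injective_linearMap (M := K.X q) j.hom hj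
    rw [lr_comm, hy'', map_sub, hy', hd2, sub_zero]
  exact (cls_eq_zero_iff (KM K M') p q r hpq hqr x).2 ⟨y', hdx⟩

end Alg

section Geo

variable (A : Type u) [CommRing A] [IsNoetherianRing A] [IsLocalRing A] (X : Scheme.{u})
  [X.Over (Spec (CommRingCat.of A))] [IsProper (X ↘ Spec (CommRingCat.of A))]
  [Flat (X ↘ Spec (CommRingCat.of A))]

/-- the trivial model over a Noetherian ring -/
noncomputable def trivModel (D : MData A X (Coh.structureModule X)) :
    NModel A (X ↘ Spec (CommRingCat.of A)) (Coh.structureModule X) :=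
  { A₀ := A, j := RingHom.id A, X₀ := X, F₀ := Coh.structureModule X,
    hcoh := Groth.Agent.Helper7.GeomConn.isCoh_structureModule' X,
    hflat := h0_isFlatOver_structureModule _,
    q := 𝟙 X,
    hpb := by
      have h1 : Spec.map (CommRingCat.ofHom (RingHom.id A)) = 𝟙 (Spec (CommRingCat.of A)) := by
        rw [show CommRingCat.ofHom (RingHom.id A) = 𝟙 (CommRingCat.of A) from rfl, Spec.map_id]
      rw [h1]
      exact IsPullback.of_horiz_isIso ⟨by rw [Category.id_comp, Category.comp_id]⟩
    e := Groth.Agent.Helper1.PullSec.unitIso (𝟙 X), D := D }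

/-- **the exchange property in degree zero over a Noetherian local ring** whose closed fibre has
an étale algebra of global functions -/
theorem presSurj_zero_of_etale (y : ↥(Spec (CommRingCat.of A)))
    (hy : y.asIdeal = IsLocalRing.maximalIdeal A)
    (het : ((X ↘ Spec (CommRingCat.of A)).fiberToSpecResidueField y).appTop.hom.Etale)
    (D : MData A X (Coh.structureModule X)) : PresSurj D.K ((0 : ℕ) : ℤ) := by
  classical
  obtain ⟨f, hf⟩ : ∃ f : X ⟶ Spec (CommRingCat.of A), f = X ↘ Spec (CommRingCat.of A) :=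
    ⟨_, rfl⟩
  haveI : IsProper f := by rw [hf]; infer_instance
  let φ₀ : A →+* (Spec (CommRingCat.of A)).residueField y :=
    (Scheme.Spec.residueFieldIso (CommRingCat.of A) y).inv.hom.comp
      (algebraMap A y.asIdeal.ResidueField)
  have hφ₀ : Spec.map (CommRingCat.ofHom φ₀) =
      (Spec (CommRingCat.of A)).fromSpecResidueField y := by
    rw [← Scheme.Spec.map_residueFieldIso_inv_eq_fromSpecResidueField, ← Spec.map_comp]
    rfl
  have hker : ∀ x : A, x ∈ IsLocalRing.maximalIdeal A → φ₀ x = 0 := by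
    intro x hx
    have h1 : algebraMap A y.asIdeal.ResidueField x = 0 :=
      Ideal.algebraMap_residueField_eq_zero.2 (by rw [hy]; exact hx)
    change (Scheme.Spec.residueFieldIso (CommRingCat.of A) y).inv.hom
      (algebraMap A y.asIdeal.ResidueField x) = 0
    rw [h1, map_zero]
  let ι : IsLocalRing.ResidueField A →+* (Spec (CommRingCat.of A)).residueField y :=
    Ideal.Quotient.lift (IsLocalRing.maximalIdeal A) φ₀ hker
  let ψ₀ : A →+* IsLocalRing.ResidueField A := (IsLocalRing.residue A).comp (algebraMap A A)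
  have hι : ι.comp ψ₀ = φ₀ := by
    refine RingHom.ext fun x => ?_
    exact Ideal.Quotient.lift_mk (IsLocalRing.maximalIdeal A) φ₀ hker
  have hbig : IsPullback (f.fiberι y) (f.fiberToSpecResidueField y) f
      (Spec.map (CommRingCat.ofHom ι) ≫ Spec.map (CommRingCat.ofHom ψ₀)) := by
    rw [← Spec.map_comp, ← CommRingCat.ofHom_comp, hι, hφ₀]
    exact IsPullback.of_hasPullback _ _
  have hlift : IsPullback (pullback.lift (f.fiberι y)
        (f.fiberToSpecResidueField y ≫ Spec.map (CommRingCat.ofHom ι))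
        (by rw [Category.assoc]; exact hbig.w))
      (f.fiberToSpecResidueField y) (pullback.snd f (Spec.map (CommRingCat.ofHom ψ₀)))
      (Spec.map (CommRingCat.ofHom ι)) := by
    refine IsPullback.of_right (h₁₂ := pullback.fst f (Spec.map (CommRingCat.ofHom ψ₀)))
      (h₂₂ := Spec.map (CommRingCat.ofHom ψ₀)) (v₁₃ := f) ?_ (pullback.lift_snd _ _ _)
      (IsPullback.of_hasPullback _ _)
    rw [pullback.lift_fst]
    exact hbig
  haveI : IsProper (pullback.snd f (Spec.map (CommRingCat.ofHom ψ₀))) := inferInstance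
  have het' : (f.fiberToSpecResidueField y).appTop.hom.Etale := by rw [hf]; exact het
  have het₀ : (pullback.snd f (Spec.map (CommRingCat.ofHom ψ₀))).appTop.hom.Etale :=
    etale_appTop_of_field_baseChange ι (pullback.snd f (Spec.map (CommRingCat.ofHom ψ₀)))
      (f.fiberToSpecResidueField y) _ hlift het'
  subst hf
  let M₁ := trivModel A X D
  letI algA : Algebra M₁.A₀ A := Algebra.id A
  have het₁ : (gB M₁ ((IsLocalRing.residue A).comp (algebraMap M₁.A₀ A))).appTop.hom.Etale :=
    het₀
  have hPS : PresSurj (bcK (B := A) M₁.D.K) ((0 : ℕ) : ℤ) :=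
    presSurj_of_etale_closedFibre' M₁ rfl (R := A) het₁
  have hPS' : PresSurj (bcK (B := A) D.K) ((0 : ℕ) : ℤ) := hPS
  haveI : Module.Finite A (D.K.X (((0 : ℕ) : ℤ) + 1)) := (D.hff _).1
  haveI : Module.Free A (D.K.X (((0 : ℕ) : ℤ) + 1)) := (D.hff _).2
  haveI : Module.Flat A ((bcK (B := A) D.K).X (((0 : ℕ) : ℤ) + 1)) :=
    show Module.Flat A (A ⊗[A] D.K.X (((0 : ℕ) : ℤ) + 1)) from inferInstance
  have hfl := (presSurj_iff_flat (bcK (B := A) D.K)
    (((0 : ℕ) : ℤ) - 1) ((0 : ℕ) : ℤ) (((0 : ℕ) : ℤ) + 1) (sub_add_cancel _ 1) rfl).1 hPS'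
  haveI := hfl
  haveI hflW : Module.Flat A (A ⊗[A] Wq D.K ((0 : ℕ) : ℤ) (((0 : ℕ) : ℤ) + 1)) :=
    Module.Flat.of_linearEquiv (wEquiv (B := A) D.K ((0 : ℕ) : ℤ) (((0 : ℕ) : ℤ) + 1)).symm
  haveI : Module.Flat A (Wq D.K ((0 : ℕ) : ℤ) (((0 : ℕ) : ℤ) + 1)) :=
    Module.Flat.of_linearEquiv (TensorProduct.lid A _).symm
  exact (presSurj_iff_flat D.K (((0 : ℕ) : ℤ) - 1) ((0 : ℕ) : ℤ) (((0 : ℕ) : ℤ) + 1)
    (sub_add_cancel _ 1) rfl).2 inferInstance

/-- **cohomological flatness in degree zero over a Noetherian local ring** whose closed fibre has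
an étale algebra of global functions: the functor `M ↦ H^0(X, O_X ⊗ M)` takes injections to
injections and surjections to surjections -/
theorem cohFlat_zero_of_etale (y : ↥(Spec (CommRingCat.of A)))
    (hy : y.asIdeal = IsLocalRing.maximalIdeal A)
    (het : Algebra.Etale ((Spec (CommRingCat.of A)).residueField y)
      Γ((X ↘ Spec (CommRingCat.of A)).fiber y, ⊤)) :
    (CohIII.tensorAFunctor A (Coh.structureModule X) ⋙ CohIII.HAb X 0).PreservesMonomorphisms ∧
      (CohIII.tensorAFunctor A (Coh.structureModule X) ⋙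
        CohIII.HAb X 0).PreservesEpimorphisms := by
  have hcoh : Coh.IsCoh (Coh.structureModule X) :=
    Groth.Agent.Helper7.GeomConn.isCoh_structureModule' X
  have hfl : FlatMod.IsFlatOver (X ↘ Spec (CommRingCat.of A)) (Coh.structureModule X) :=
    h0_isFlatOver_structureModule _
  obtain ⟨D⟩ := nonempty_mdata A X (Coh.structureModule X) hcoh hfl
  haveI : (Coh.structureModule X).IsQuasicoherent := hcoh.1
  let e := Groth.Agent.Lib.Helper4.FibSurj1.MData.eH D 0
  haveI : IsLocallyNoetherian (Spec (CommRingCat.of A)) :=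
    isLocallyNoetherian_Spec.2 (inferInstanceAs (IsNoetherianRing A))
  haveI : LocallyOfFinitePresentation (X ↘ Spec (CommRingCat.of A)) :=
    (LocallyOfFinitePresentation.iff_locallyOfFiniteType).2 inferInstance
  have het1 := etale_appTop_of_algebra_etale (X ↘ Spec (CommRingCat.of A)) y het
  have hPS := presSurj_zero_of_etale A X y hy het1 D
  haveI : Module.Free A (D.K.X ((0 : ℕ) : ℤ)) := (D.hff _).2
  have hPI : PresInj D.K ((0 : ℕ) : ℤ) :=
    presInj_of_uvan D.K (-2) (-1) ((0 : ℕ) : ℤ) 1 (by norm_num) (by norm_num) (by norm_num)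
      (D.hneg (-1) (by norm_num))
  refine ⟨⟨fun {M' M} j hj => ?_⟩, (preservesEpi_iff D.K _ e).2 hPS⟩
  exact (AddCommGrpCat.mono_iff_injective _).2
    ((map_injective_iff D.K _ e j).2 (hPI M' M j ((ModuleCat.mono_iff_injective j).1 hj)))

end Geo

end Groth.Agent.Helper7.EtH0
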