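import Mathlib
import Groth.Prelude.Def_MoreMor
import Groth.Prelude.Def_PerfAux
import Groth.Agent.Lib.Helper7.EtH0.GeomRed
import Groth.Agent.Lib.Helper7.GeomConn.ZarFibre
import Groth.Agent.Lib.Helper1.QcPullGen
import Groth.Agent.Lib.Helper3.FlatTen3
import Groth.Agent.Lib.Helper1.HH0

set_option linter.style.haveILetI false
set_option linter.unusedVariables false
set_option linter.unusedSectionVars false
set_option autoImplicit false
set_option backward.isDefEq.respectTransparency.types false
set_option backward.isDefEq.respectTransparency false
set_option synthInstance.maxHeartbeats 400000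
set_option maxHeartbeats 1600000

universe u

/-! helper7: for a proper scheme over a field whose algebra of global functions is étale, the number of connected components over a separably closed extension is the dimension of the space of global functions; consequence for the number of geometric connected components of the fibres of a proper morphism -/

open CategoryTheory CategoryTheory.Limits AlgebraicGeometry TopologicalSpace Opposite TensorProduct

namespace Groth.Agent.Helper7.EtH0

open Groth.Agent.Helper7.GeomConn

section Topology

/-- a continuous surjection with preconnected fibres onto a totally disconnected space identifies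
the target with the set of connected components of the source -/
theorem nonempty_connectedComponents_equiv {Z W : Type*} [TopologicalSpace Z] [TopologicalSpace W]
    [TotallyDisconnectedSpace W] (τ : Z → W) (hτ : Continuous τ) (hs : Function.Surjective τ)
    (hf : ∀ w, _root_.IsPreconnected (τ ⁻¹' {w})) : Nonempty (_root_.ConnectedComponents Z ≃ W) := by
  refine ⟨Equiv.ofBijective hτ.connectedComponentsLift ⟨?_, ?_⟩⟩
  · intro a b hab
    obtain ⟨x, rfl⟩ := ConnectedComponents.surjective_coe a
    obtain ⟨y, rfl⟩ := ConnectedComponents.surjective_coe b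
    rw [Continuous.connectedComponentsLift_apply_coe,
      Continuous.connectedComponentsLift_apply_coe] at hab
    rw [ConnectedComponents.coe_eq_coe']
    exact (hf (τ y)).subset_connectedComponent (show y ∈ τ ⁻¹' {τ y} from rfl) hab
  · intro w
    obtain ⟨z, rfl⟩ := hs w
    exact ⟨(z : _root_.ConnectedComponents Z), Continuous.connectedComponentsLift_apply_coe hτ z⟩

end Topology

section Geom

variable {K : Type u} [Field K] {Z : Scheme.{u}} (g : Z ⟶ Spec (CommRingCat.of K)) [IsProper g]

include g in
/-- the connected components of a proper scheme over a field correspond to the points of the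
spectrum of the algebra of global functions -/
theorem nonempty_connectedComponents_equiv_primeSpectrum :
    Nonempty (_root_.ConnectedComponents ↥Z ≃ PrimeSpectrum Γ(Z, ⊤)) := by
  letI a1 : Algebra K Γ(Z, ⊤) := (toΓ K Z g).toAlgebra
  haveI hfin : Module.Finite K Γ(Z, ⊤) := finite_globalSections K Z g
  haveI : IsArtinianRing Γ(Z, ⊤) := IsArtinianRing.of_finite K Γ(Z, ⊤)
  haveI : IsNoetherianRing Γ(Z, ⊤) := inferInstance
  haveI : CompactSpace ↥Z := QuasiCompact.compactSpace_of_compactSpace g
  haveI hprop : IsProper Z.toSpecΓ := by
    haveI : IsProper (Z.toSpecΓ ≫ Spec.map g.appTop) := by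
      rw [← Scheme.toSpecΓ_naturality]
      infer_instance
    exact IsProper.of_comp Z.toSpecΓ (Spec.map g.appTop)
  haveI : IsLocallyNoetherian (Spec Γ(Z, ⊤)) := inferInstance
  haveI : DiscreteTopology ↥(Spec Γ(Z, ⊤)) :=
    inferInstanceAs (DiscreteTopology (PrimeSpectrum Γ(Z, ⊤)))
  have hiso : IsIso (Z.toSpecΓ.app ⊤) := by
    have h := Scheme.toSpecΓ_appTop Z
    change IsIso Z.toSpecΓ.appTop
    rw [h]
    infer_instance
  haveI : Surjective Z.toSpecΓ := inferInstance
  have hpre : ∀ w : ↥(Spec Γ(Z, ⊤)), _root_.IsPreconnected (Z.toSpecΓ ⁻¹' {w}) := fun w =>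
    ZC.isPreconnected_preimage_singleton Z.toSpecΓ w ⊤ (isAffineOpen_top _) trivial hiso
  exact nonempty_connectedComponents_equiv _ Z.toSpecΓ.continuous Z.toSpecΓ.surjective hpre

end Geom

section Count

variable {k : Type u} [Field k] {Y : Scheme.{u}} (q : Y ⟶ Spec (CommRingCat.of k)) [IsProper q]
  (K : Type u) [Field K] [Algebra k K] [IsSepClosed K]

/-- **the number of connected components over a separably closed extension** of a proper scheme
over a field whose algebra of global functions is étale -/
theorem card_connectedComponents_baseChange (het : q.appTop.hom.Etale) :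
    letI := (toΓ k Y q).toAlgebra
    ENat.card (_root_.ConnectedComponents
      ↥(pullback q (Spec.map (CommRingCat.ofHom (algebraMap k K))))) =
      (Module.finrank k Γ(Y, ⊤) : ℕ∞) := by
  letI a1 : Algebra k Γ(Y, ⊤) := (toΓ k Y q).toAlgebra
  haveI : IsProper (pullback.snd q (Spec.map (CommRingCat.ofHom (algebraMap k K)))) :=
    inferInstance
  letI a2 : Algebra K Γ(pullback q (Spec.map (CommRingCat.ofHom (algebraMap k K))), ⊤) :=
    (toΓ K _ (pullback.snd q (Spec.map (CommRingCat.ofHom (algebraMap k K))))).toAlgebra
  obtain ⟨e⟩ := exists_algEquiv_baseChange' k Y q K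
  haveI hEk : Algebra.Etale k Γ(Y, ⊤) := RingHom.etale_algebraMap.1 (etale_toΓ_of_appTop q het)
  haveI hEK : Algebra.Etale K Γ(pullback q (Spec.map (CommRingCat.ofHom (algebraMap k K))), ⊤) :=
    Algebra.Etale.of_equiv e
  haveI hfin : Module.Finite K
      Γ(pullback q (Spec.map (CommRingCat.ofHom (algebraMap k K))), ⊤) :=
    finite_globalSections K _ (pullback.snd q (Spec.map (CommRingCat.ofHom (algebraMap k K))))
  haveI : IsArtinianRing Γ(pullback q (Spec.map (CommRingCat.ofHom (algebraMap k K))), ⊤) :=
    IsArtinianRing.of_finite K _
  have hrank : Module.finrank K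
      Γ(pullback q (Spec.map (CommRingCat.ofHom (algebraMap k K))), ⊤) =
      Module.finrank k Γ(Y, ⊤) := by
    rw [← e.toLinearEquiv.finrank_eq, Module.finrank_baseChange]
  letI : Fintype (PrimeSpectrum
      Γ(pullback q (Spec.map (CommRingCat.ofHom (algebraMap k K))), ⊤)) := Fintype.ofFinite _
  have hcard : Module.finrank K
      Γ(pullback q (Spec.map (CommRingCat.ofHom (algebraMap k K))), ⊤) =
      Fintype.card (PrimeSpectrum
        Γ(pullback q (Spec.map (CommRingCat.ofHom (algebraMap k K))), ⊤)) := by
    rw [(Algebra.FormallyEtale.equivPiOfIsSepClosed K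
      Γ(pullback q (Spec.map (CommRingCat.ofHom (algebraMap k K))), ⊤)).toLinearEquiv.finrank_eq,
      Module.finrank_fintype_fun_eq_card]
  obtain ⟨E⟩ := nonempty_connectedComponents_equiv_primeSpectrum
    (pullback.snd q (Spec.map (CommRingCat.ofHom (algebraMap k K))))
  rw [ENat.card_congr E, ENat.card_eq_coe_fintype_card, ← hcard, hrank]

end Count

section Fibre

variable {X S : Scheme.{u}} (f : X ⟶ S)

/-- the zeroth Betti number of the structure sheaf on a fibre is the dimension of the space of
global functions of the fibre -/
theorem betti_zero_eq_finrank (s : S) :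
    letI := (toΓ (S.residueField s) (f.fiber s) (f.fiberToSpecResidueField s)).toAlgebra
    PerfAux.betti f (Coh.structureModule X) s 0 =
      Module.finrank (S.residueField s) Γ(f.fiber s, ⊤) := by
  letI oY : (f.fiber s).Over (Spec (CommRingCat.of (S.residueField s))) :=
    ⟨f.fiberToSpecResidueField s⟩
  letI algA : Algebra (S.residueField s) Γ(f.fiber s, ⊤) :=
    (toΓ (S.residueField s) (f.fiber s) (f.fiberToSpecResidueField s)).toAlgebra
  have e1 := Groth.Agent.Helper3.FlatTen.HHcongr (S.residueField s)
    (Groth.Agent.Helper1.QcPullGen.pullbackUnitIso (f.fiberι s)) 0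
  let E := Groth.Agent.Helper1.HH0.equiv (f.fiber s) (Coh.structureModule (f.fiber s))
  let toG : ↑((Coh.structureModule (f.fiber s)).val.obj (op ⊤)) → Γ(f.fiber s, ⊤) := fun m => m
  let ofG : Γ(f.fiber s, ⊤) → ↑((Coh.structureModule (f.fiber s)).val.obj (op ⊤)) := fun m => m
  let L : Coh.HH (f.fiber s) (Coh.structureModule (f.fiber s)) 0 ≃ₗ[S.residueField s]
      Γ(f.fiber s, ⊤) :=
    { toFun := fun x => toG (E x)
      invFun := fun s' => E.symm (ofG s')
      map_add' := fun x y => by
        show toG (E (x + y)) = toG (E x) + toG (E y)
        rw [map_add]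
      map_smul' := fun a x => by
        show toG (E (a • x)) =
          toΓ (S.residueField s) (f.fiber s) (f.fiberToSpecResidueField s) a * toG (E x)
        rw [Groth.Agent.Helper1.HH0.equiv_smul_over]
        rfl
      left_inv := fun x => E.left_inv x
      right_inv := fun s' => E.right_inv (ofG s') }
  exact (e1.trans L).finrank_eq

/-- **the number of geometric connected components of a fibre with an étale algebra of global
functions** is the dimension of the space of global functions of the fibre -/
theorem nGeomConnComp_eq_betti [IsProper f] (t : S)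
    (het : (f.fiberToSpecResidueField t).appTop.hom.Etale) :
    MoreMor.nGeomConnComp f t = (PerfAux.betti f (Coh.structureModule X) t 0 : ℕ∞) := by
  haveI : IsProper (f.fiberToSpecResidueField t) :=
    inferInstanceAs (IsProper (pullback.snd f (S.fromSpecResidueField t)))
  have h1 := card_connectedComponents_baseChange (k := S.residueField t)
    (f.fiberToSpecResidueField t) (SeparableClosure (S.residueField t)) het
  have h2 := betti_zero_eq_finrank f t
  exact h1.trans (congrArg (fun n : ℕ => (n : ℕ∞)) h2.symm)

end Fibre

end Groth.Agent.Helper7.EtH0
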