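import Mathlib
import Groth.Prelude.Def_CohCmp
import Groth.Agent.Lib.Helper7.EtH0.Main
import Groth.Agent.Lib.Helper7.EtH0.Count
import Groth.Agent.Lib.Helper7.GenBC.EpiRank

set_option linter.style.haveILetI false
set_option linter.unusedVariables false
set_option linter.unusedSectionVars false
set_option autoImplicit false
set_option backward.isDefEq.respectTransparency.types false
set_option backward.isDefEq.respectTransparency false
set_option synthInstance.maxHeartbeats 400000
set_option maxHeartbeats 1600000

universe u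

/-! helper7: for a proper flat finitely presented morphism, the dimension of the space of global functions of the fibres is locally constant near a point whose fibre has an étale algebra of global functions; local constancy of the number of geometric connected components of the fibres for geometrically reduced fibres -/

open CategoryTheory CategoryTheory.Limits Opposite TopologicalSpace AlgebraicGeometry Topology
open AlgebraicGeometry.Scheme.Modules TensorProduct
open Groth.Agent.Helper1
open Groth.Agent.Helper1.RpushLoc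
open Groth.Agent.Helper1.FlatCxL
open Groth.Agent.Helper3
open Groth.Agent.Lib.Helper4.BaseChgRing1
open Groth.Agent.Lib.Helper4.TenSec2
open Groth.Agent.Lib.Helper4.LocCech1
open Groth.Agent.Lib.Helper4.CechTen1
open Groth.Agent.Lib.Helper4.ExchAlg1
open Groth.Agent.Lib.Helper4.ExchAlg2
open Groth.Agent.Lib.Helper4.TruncAlg1
open Groth.Agent.Lead.BCU
open Groth.Agent.Helper7.GenBC

namespace Groth.Agent.Helper7.EtH0

attribute [local instance] secMod

section

variable {X S : Scheme.{u}} (f : X ⟶ S) [IsProper f] [LocallyOfFinitePresentation f] [Flat f]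
  (s : S)

/-- **local constancy of the dimension of the space of global functions of the fibres** near a
point whose fibre has an étale algebra of global functions -/
theorem exists_nhd_isLocallyConstant_betti_zero
    (het : (f.fiberToSpecResidueField s).appTop.hom.Etale) :
    ∃ V : S.Opens, s ∈ V ∧
      IsLocallyConstant (fun v : V => CohIII.fiberRank f (Coh.structureModule X) 0 v.1) := by
  obtain ⟨V₁, hV₁, hsV₁, M, hM⟩ := exists_chart_unit_nmodel f s
  obtain ⟨g₀, hs₀, hP⟩ := exists_unit_presSurj_zero_of_etale f s het hV₁ hsV₁ M hM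
  refine ⟨S.basicOpen g₀, hs₀, ?_⟩
  have hg : ∀ (y : ↑(Spec (CommRingCat.of Γ(S, V₁)))),
      hV₁.fromSpec y ∈ S.basicOpen g₀ → g₀ ∉ (y : PrimeSpectrum Γ(S, V₁)).asIdeal := by
    intro y hy
    have h4 : y ∈ hV₁.fromSpec ⁻¹ᵁ S.basicOpen g₀ := hy
    rw [hV₁.fromSpec_preimage_basicOpen] at h4
    exact h4
  apply isLocallyConstant_fiberRank_of_freeLocus f (Coh.structureModule X) hV₁ M 0 _
    (S.basicOpen_le g₀)
  · intro y hy
    letI algA : Algebra M.A₀ Γ(S, V₁) := ((RingHom.id Γ(S, V₁)).comp M.j).toAlgebra
    haveI hfl := M.flat_Wq_neg (RingHom.id Γ(S, V₁))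
    haveI hfinL : ∀ i, Module.Finite Γ(S, V₁) ((bcK (B := Γ(S, V₁)) M.D.K).X i) := fun i => by
      haveI := (M.D.hff i).1
      exact (show Module.Finite Γ(S, V₁) (Γ(S, V₁) ⊗[M.A₀] M.D.K.X i) from inferInstance)
    haveI hfreeL : ∀ i, Module.Free Γ(S, V₁) ((bcK (B := Γ(S, V₁)) M.D.K).X i) := fun i => by
      haveI := (M.D.hff i).2
      exact (show Module.Free Γ(S, V₁) (Γ(S, V₁) ⊗[M.A₀] M.D.K.X i) from inferInstance)
    haveI := finitePresentation_Wq (bcK (B := Γ(S, V₁)) M.D.K) (((0 : ℕ) : ℤ) - 1) ((0 : ℕ) : ℤ)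
    rw [Module.freeLocus_eq_univ]
    trivial
  · intro y hy
    exact M.mem_freeLocus_Wq ((0 : ℕ) : ℤ) g₀ hP y (hg y hy)

/-- **local constancy of the number of geometric connected components of the fibres** of a proper
flat finitely presented morphism with geometrically reduced fibres -/
theorem isLocallyConstant_nGeomConnComp [GeometricallyReduced f] :
    IsLocallyConstant (fun s : ↑S => MoreMor.nGeomConnComp f s) := by
  rw [IsLocallyConstant.iff_exists_open]
  intro s
  have het : ∀ t, (f.fiberToSpecResidueField t).appTop.hom.Etale := fun t =>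
    etale_fibre_of_geomReduced f t
  obtain ⟨V, hsV, hlc⟩ := exists_nhd_isLocallyConstant_betti_zero f s (het s)
  obtain ⟨U', hU'o, hsU', hU'⟩ := (IsLocallyConstant.iff_exists_open _).1 hlc ⟨s, hsV⟩
  refine ⟨Subtype.val '' U', V.isOpen.isOpenMap_subtype_val _ hU'o, ⟨⟨s, hsV⟩, hsU', rfl⟩, ?_⟩
  rintro _ ⟨v, hv, rfl⟩
  rw [nGeomConnComp_eq_betti f v.1 (het v.1), nGeomConnComp_eq_betti f s (het s)]
  exact congrArg (fun n : ℕ => (n : ℕ∞)) (hU' v hv)

/-- openness of the locus of points with geometrically reduced fibres with a given number of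
geometric connected components, given the openness of the locus of geometrically reduced fibres -/
theorem isOpen_geomReduced_nGeomConnComp_eq
    (hG : IsOpen {y : S | GeometricallyReduced (f.fiberToSpecResidueField y)}) (k : ℕ) :
    IsOpen {y : S | GeometricallyReduced (f.fiberToSpecResidueField y) ∧
      MoreMor.nGeomConnComp f y = k} := by
  rw [isOpen_iff_forall_mem_open]
  rintro s ⟨hs1, hs2⟩
  haveI := hs1
  have hets := etale_fibre_of_geomReduced' f s
  obtain ⟨V, hsV, hlc⟩ := exists_nhd_isLocallyConstant_betti_zero f s hets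
  obtain ⟨U', hU'o, hsU', hU'⟩ := (IsLocallyConstant.iff_exists_open _).1 hlc ⟨s, hsV⟩
  refine ⟨Subtype.val '' U' ∩ {y | GeometricallyReduced (f.fiberToSpecResidueField y)}, ?_,
    (V.isOpen.isOpenMap_subtype_val _ hU'o).inter hG, ⟨⟨⟨s, hsV⟩, hsU', rfl⟩, hs1⟩⟩
  rintro _ ⟨⟨v, hv, rfl⟩, hred⟩
  have hred' : GeometricallyReduced (f.fiberToSpecResidueField v.1) := hred
  refine ⟨hred', ?_⟩
  haveI := hred'
  rw [nGeomConnComp_eq_betti f v.1 (etale_fibre_of_geomReduced' f v.1), ← hs2,
    nGeomConnComp_eq_betti f s hets]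
  exact congrArg (fun n : ℕ => (n : ℕ∞)) (hU' v hv)

end

end Groth.Agent.Helper7.EtH0
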