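import Mathlib
import Groth.Prelude.Def_CohCmp
import Groth.Agent.Lib.Helper7.EtH0.Main

set_option linter.style.haveILetI false
set_option linter.unusedVariables false
set_option linter.unusedSectionVars false
set_option autoImplicit false
set_option backward.isDefEq.respectTransparency.types false
set_option backward.isDefEq.respectTransparency false
set_option synthInstance.maxHeartbeats 400000
set_option maxHeartbeats 1600000

universe u

/-! helper7: the local form of base change in degree zero near a point whose fibre has an étale algebra of global functions: the comparison map is bijective on sections over every affine open of the new base mapping into the neighbourhood, for an arbitrary base change -/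

open CategoryTheory CategoryTheory.Limits Opposite TopologicalSpace AlgebraicGeometry
open AlgebraicGeometry.Scheme.Modules TensorProduct
open Groth.Agent.Helper1
open Groth.Agent.Helper1.RpushLoc
open Groth.Agent.Helper3
open Groth.Agent.Lib.Helper4.BaseChgRing1
open Groth.Agent.Lib.Helper4.TenSec2
open Groth.Agent.Lib.Helper4.LocCech1
open Groth.Agent.Lib.Helper4.CechTen1
open Groth.Agent.Lib.Helper4.ExchAlg1
open Groth.Agent.Lib.Helper4.ExchAlg2
open Groth.Agent.Lib.Helper4.TruncAlg1
open Groth.Agent.Lead.BCU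
open Groth.Agent.Helper7.GenBC

namespace Groth.Agent.Helper7.EtH0

attribute [local instance] secMod

section Local

variable {X S : Scheme.{u}} (f : X ⟶ S) [IsProper f] [LocallyOfFinitePresentation f]
  (F : X.Modules) [F.IsQuasicoherent] (hfl : FlatMod.IsFlatOver f F)

include hfl in
/-- from the exchange property of the model complex over the non-vanishing locus of a function to
bijectivity of the comparison map on sections over affine opens mapping into that locus, for an
arbitrary base change -/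
theorem bijective_bcMap_of_presSurj {V₁ : S.Opens} (hV₁ : IsAffineOpen V₁)
    (M : NModel Γ(S, V₁) (strMap f hV₁) ((Scheme.Modules.pullback (f ⁻¹ᵁ V₁).ι).obj F))
    (g₀ : Γ(S, V₁))
    (hP : ∀ (B : Type u) [CommRing B] (ψ : Γ(S, V₁) →+* B), IsUnit (ψ g₀) →
        letI : Algebra M.A₀ B := (ψ.comp M.j).toAlgebra
        PresSurj (bcK (B := B) M.D.K) ((0 : ℕ) : ℤ))
    {X' S' : Scheme.{u}} (g : S' ⟶ S) (g' : X' ⟶ X) (f' : X' ⟶ S')
    (h : IsPullback g' f' f g) (V' : S'.Opens) (hV' : IsAffineOpen V')
    (hle : V' ≤ g ⁻¹ᵁ (S.basicOpen g₀)) :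
    Function.Bijective ((bcMap f g g' f' h F).app V') := by
  have hW : IsAffineOpen (S.basicOpen g₀) := hV₁.basicOpen g₀
  have hleW : S.basicOpen g₀ ≤ V₁ := S.basicOpen_le g₀
  have hs := isPullback_strMap f hV₁ hW hleW
  have hu : IsUnit ((S.presheaf.map (homOfLE hleW).op).hom g₀) :=
    S.toRingedSpace.isUnit_res_basicOpen g₀
  letI : (↑(f ⁻¹ᵁ S.basicOpen g₀) : Scheme.{u}).Over
      (Spec (CommRingCat.of Γ(S, S.basicOpen g₀))) := ⟨strMap f hW⟩
  let e₀ : (Scheme.Modules.pullback (X.homOfLE (f.preimage_mono hleW))).obj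
      ((Scheme.Modules.pullback (f ⁻¹ᵁ V₁).ι).obj F) ≅ F.restrict (f ⁻¹ᵁ S.basicOpen g₀).ι :=
    (Groth.Agent.Helper7.ConsMod.pullbackFacIso (X.homOfLE_ι (f.preimage_mono hleW)) F).symm ≪≫
      (Scheme.Modules.restrictFunctorIsoPullback _).symm.app F
  obtain ⟨ι₀, hfin, U', hcovU, haffU, hflW⟩ := M.flatW_of_presSurj
    (S.presheaf.map (homOfLE hleW).op).hom (strMap f hW)
    (X.homOfLE (f.preimage_mono hleW)) hs 0
    (hP Γ(S, S.basicOpen g₀) (S.presheaf.map (homOfLE hleW).op).hom hu)
    (F.restrict (f ⁻¹ᵁ S.basicOpen g₀).ι) e₀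
  haveI := hfin
  haveI : (F.restrict (f ⁻¹ᵁ S.basicOpen g₀).ι).IsQuasicoherent := inferInstance
  have hflr : FlatMod.IsFlatOver (strMap f hW) (F.restrict (f ⁻¹ᵁ S.basicOpen g₀).ι) :=
    Groth.Agent.Lib.Helper4.ChartSq1.isFlatOver_restrict f hW F hfl
  have hb := Groth.Agent.Helper7.BC0.bijAt_of_flatW f hW rfl F U' g g' f' h hcovU haffU
    (Groth.Agent.Helper7.BC0.flat_Co Γ(S, S.basicOpen g₀)
      (F.restrict (f ⁻¹ᵁ S.basicOpen g₀).ι) U' hflr haffU 0)
    (Groth.Agent.Helper7.BC0.flat_Co Γ(S, S.basicOpen g₀)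
      (F.restrict (f ⁻¹ᵁ S.basicOpen g₀).ι) U' hflr haffU 1) hflW ⟨V', hle⟩ hV'
  exact Groth.Agent.Helper7.BC0.bijective_bcMap_app_of_bijAt f g g' f' h F ⟨V', hle⟩ hW hV' hb

end Local

section Final

variable {X S : Scheme.{u}} (f : X ⟶ S) [IsProper f] [LocallyOfFinitePresentation f] [Flat f]
  (s : S)

/-- **local base change in degree zero near a point whose fibre has an étale algebra of global
functions** -/
theorem exists_nhd_bijective_bcMap (het : (f.fiberToSpecResidueField s).appTop.hom.Etale) :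
    ∃ U : S.Opens, s ∈ U ∧
      ∀ {X' S' : Scheme.{u}} (g : S' ⟶ S) (g' : X' ⟶ X) (f' : X' ⟶ S')
        (h : IsPullback g' f' f g) (V' : S'.Opens), IsAffineOpen V' → V' ≤ g ⁻¹ᵁ U →
        Function.Bijective ((bcMap f g g' f' h (Coh.structureModule X)).app V') := by
  obtain ⟨V₁, hV₁, hsV₁, M, hM⟩ := exists_chart_unit_nmodel f s
  obtain ⟨g₀, hs₀, hP⟩ := exists_unit_presSurj_zero_of_etale f s het hV₁ hsV₁ M hM
  have hfl : FlatMod.IsFlatOver f (Coh.structureModule X) := h0_isFlatOver_structureModule f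
  exact ⟨S.basicOpen g₀, hs₀, fun g g' f' h V' hV' hle =>
    bijective_bcMap_of_presSurj f (Coh.structureModule X) hfl hV₁ M g₀ hP g g' f' h V' hV' hle⟩

end Final

end Groth.Agent.Helper7.EtH0
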