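import Mathlib
import Groth.Prelude.Def_CohCmp
import Groth.Agent.Lib.Helper7.EtH0.LocalBC
import Groth.Agent.Lib.Helper7.EtH0.GeomRed
import Groth.Agent.Lib.Helper7.GenBC.H0Iso
import Groth.Agent.Lib.Helper7.GeomConn.SteinFibre
import Groth.Agent.Lib.Lead.FBC2

set_option linter.style.haveILetI false
set_option linter.unusedVariables false
set_option linter.unusedSectionVars false
set_option autoImplicit false
set_option backward.isDefEq.respectTransparency.types false
set_option backward.isDefEq.respectTransparency false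
set_option synthInstance.maxHeartbeats 400000
set_option maxHeartbeats 1600000

universe u

/-! helper7: the formation of the Stein factorization of a proper flat finitely presented morphism whose fibres have étale algebras of global functions commutes with arbitrary base change -/

open CategoryTheory CategoryTheory.Limits Opposite TopologicalSpace AlgebraicGeometry
open AlgebraicGeometry.Scheme.Modules TensorProduct
open Groth.Agent.Helper1
open Groth.Agent.Lead.BCU
open Groth.Agent.Helper7.GenBC

namespace Groth.Agent.Helper7.EtH0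

section Alg

/-- a base change square of modules along ring maps which is a square of rings is a pushout of
commutative rings -/
theorem isPushout_of_isBC {A K E B : CommRingCat.{u}} (φ : A ⟶ K) (α : A ⟶ E) (ρ : E ⟶ B)
    (β : K ⟶ B) (hcomm : α ≫ ρ = φ ≫ β)
    (hbc : letI := α.hom.toAlgebra; letI := β.hom.toAlgebra;
      IsBC φ.hom (fun m : E => ρ.hom m)) :
    IsPushout α φ ρ β := by
  letI aK : Algebra A K := φ.hom.toAlgebra
  letI aE : Algebra A E := α.hom.toAlgebra
  letI aKB : Algebra K B := β.hom.toAlgebra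
  letI aEB : Algebra E B := ρ.hom.toAlgebra
  letI aAB : Algebra A B := (β.hom.comp φ.hom).toAlgebra
  haveI t1 : IsScalarTower A K B := IsScalarTower.of_algebraMap_eq' rfl
  haveI t2 : IsScalarTower A E B := IsScalarTower.of_algebraMap_eq'
    (congrArg CommRingCat.Hom.hom hcomm).symm
  have hP : Algebra.IsPushout A K E B := by
    obtain ⟨l', hl', hb⟩ := hbc
    refine ⟨IsBaseChange.of_equiv hb.equiv (fun x => ?_)⟩
    rw [IsBaseChange.equiv_tmul, one_smul]
    exact hl' x
  have h1 := CommRingCat.isPushout_iff_isPushout.2 hP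
  exact h1.flip

end Alg

section General

theorem isIso_appLE_of_eq {X Y : Scheme.{u}} (φ : X ⟶ Y) (U : Y.Opens) (V : X.Opens)
    (hV : V = φ ⁻¹ᵁ U) (e : V ≤ φ ⁻¹ᵁ U) (h : IsIso (φ.app U)) : IsIso (φ.appLE U V e) := by
  subst hV
  rw [Scheme.Hom.appLE_eq_app]
  exact h

end General

section Square

variable {X S X' S' : Scheme.{u}} (f : X ⟶ S) (g : S' ⟶ S) (g' : X' ⟶ X) (f' : X' ⟶ S')
  (H : IsPullback g' f' f g)

/-- if the base change comparison map for the structure sheaf is bijective on sections over an
affine open, the rings of functions over the corresponding preimages form a pushout square -/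
theorem isPushout_app_of_bijective [QuasiCompact f] [QuasiSeparated f]
    {U : S.Opens} {V : S'.Opens} (hU : IsAffineOpen U)
    (hV : IsAffineOpen V) (hVU : V ≤ g ⁻¹ᵁ U)
    (hbij : Function.Bijective ((bcMap f g g' f' H (Coh.structureModule X)).app V)) :
    IsPushout (f.app U) (g.appLE U V hVU)
      (g'.appLE (f ⁻¹ᵁ U) (f' ⁻¹ᵁ V) (preimage_le f g g' f' H hVU)) (f'.app V) := by
  haveI hq : (Coh.structureModule X).IsQuasicoherent :=
    IdealModL.isQuasicoherent_structureModule
  haveI hpq : ((Scheme.Modules.pushforward f).obj (Coh.structureModule X)).IsQuasicoherent :=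
    Groth.Agent.Helper1.PushQc.isQuasicoherent_pushforward f _
  letI algE : Algebra Γ(S, U) Γ(X, f ⁻¹ᵁ U) := (f.app U).hom.toAlgebra
  let toE : Γ((Scheme.Modules.pushforward f).obj (Coh.structureModule X), U) → Γ(X, f ⁻¹ᵁ U) :=
    fun m => m
  let ofE : Γ(X, f ⁻¹ᵁ U) → Γ((Scheme.Modules.pushforward f).obj (Coh.structureModule X), U) :=
    fun m => m
  let L : Γ((Scheme.Modules.pushforward f).obj (Coh.structureModule X), U) ≃ₗ[Γ(S, U)]
      Γ(X, f ⁻¹ᵁ U) :=
    { toFun := toE
      invFun := ofE
      map_add' := fun _ _ => rfl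
      map_smul' := fun a m => rfl
      left_inv := fun _ => rfl
      right_inv := fun _ => rfl }
  have hbcK := isBC_unitRes_of_bijective f g g' f' H (Coh.structureModule X) hU hV hVU hbij
  have e'' := preimage_le f g g' f' H hVU
  have hgen := Groth.Agent.Helper1.PullGen.isGen_σ g' (AmpleLib.isGen_one' (f ⁻¹ᵁ U))
  have hgen' := hgen (f' ⁻¹ᵁ V) e''
  let n₀ : Γ((Scheme.Modules.pushforward f).obj (Coh.structureModule X), U) :=
    (show Γ(Coh.structureModule X, f ⁻¹ᵁ U) from TwForm.one' (f ⁻¹ᵁ U))
  let s₁ : Γ((Scheme.Modules.pullback g').obj (Coh.structureModule X), f' ⁻¹ᵁ V) :=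
    unitRes g' (Coh.structureModule X) e'' n₀
  have hgen'' : Function.Bijective (fun r : Γ(X', f' ⁻¹ᵁ V) => r • s₁) := hgen'
  have hcommC : f.app U ≫ g'.appLE (f ⁻¹ᵁ U) (f' ⁻¹ᵁ V) e'' =
      g.appLE U V hVU ≫ f'.app V := by
    rw [← Scheme.Hom.comp_appLE, ← Scheme.Hom.appLE_eq_app (f := f'),
      Scheme.Hom.appLE_comp_appLE]
    exact h0_appLE_congr H.w U _ _ _
  letI algKB : Algebra Γ(S', V) Γ(X', f' ⁻¹ᵁ V) := (f'.app V).hom.toAlgebra
  let ν : Γ(X', f' ⁻¹ᵁ V) ≃ₗ[Γ(S', V)]
      Γ((pushforward f').obj ((Scheme.Modules.pullback g').obj (Coh.structureModule X)), V) :=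
    { toFun := fun b => (show Γ((pushforward f').obj
          ((Scheme.Modules.pullback g').obj (Coh.structureModule X)), V) from b • s₁)
      map_add' := fun b b' => add_smul b b' s₁
      map_smul' := fun c b => by
        change (((f'.app V).hom c) * b) • s₁ = _
        rw [mul_smul]
        rfl
      invFun := Function.surjInv hgen''.2
      left_inv := Function.leftInverse_surjInv hgen''
      right_inv := Function.rightInverse_surjInv hgen''.2 }
  have hbcρ : IsBC (g.appLE U V hVU).hom
      (fun m : Γ(X, f ⁻¹ᵁ U) => (g'.appLE (f ⁻¹ᵁ U) (f' ⁻¹ᵁ V) e'').hom m) := by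
    refine IsBC.of_equiv L.symm ν ?_ hbcK
    intro m
    change (g'.appLE (f ⁻¹ᵁ U) (f' ⁻¹ᵁ V) e'').hom m • s₁ =
      unitRes g' (Coh.structureModule X) e''
        (show Γ(Coh.structureModule X, f ⁻¹ᵁ U) from m)
    have h1 := Groth.Agent.Lead.FBC.unitRes_smul g' (Coh.structureModule X) e'' m
      (TwForm.one' (f ⁻¹ᵁ U))
    rw [TwForm.smul_one'] at h1
    exact h1.symm
  exact isPushout_of_isBC (g.appLE U V hVU) (f.app U) (g'.appLE (f ⁻¹ᵁ U) (f' ⁻¹ᵁ V) e'')
    (f'.app V) hcommC hbcρ

end Square

section Main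

variable {X S T : Scheme.{u}} (f : X ⟶ S) [IsProper f] [LocallyOfFinitePresentation f] [Flat f]

/-- **the Stein factorization commutes with arbitrary base change** for a proper flat finitely
presented morphism whose fibres have étale algebras of global functions -/
theorem isIso_normalizationPullback
    (het : ∀ t : S, (f.fiberToSpecResidueField t).appTop.hom.Etale) (g : T ⟶ S) :
    IsIso (f.normalizationPullback g) := by
  apply IsZariskiLocalAtTarget.of_forall_exists_morphismRestrict (P := .isomorphisms _) fun x ↦ ?_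
  obtain ⟨U₀, hsU₀, hloc⟩ := exists_nhd_bijective_bcMap f
    ((pullback.snd f.fromNormalization g ≫ g) x) (het _)
  obtain ⟨U, hU, hxU, hUU₀⟩ := Opens.isBasis_iff_nbhd.mp S.isBasis_affineOpens hsU₀
  obtain ⟨V, hV, hxV, hVU⟩ := Opens.isBasis_iff_nbhd.mp T.isBasis_affineOpens
    (show pullback.snd f.fromNormalization g x ∈ g ⁻¹ᵁ U from hxU)
  refine ⟨pullback.snd f.fromNormalization g ⁻¹ᵁ V, hxV,
    (isIso_morphismRestrict_iff_isIso_app _
      (U := pullback.snd f.fromNormalization g ⁻¹ᵁ V) (hV.preimage _)).mpr ?_⟩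
  -- the two basic relations
  have hq2 : ((pullback.snd f g).toNormalization ≫ f.normalizationPullback g) ≫
      pullback.snd f.fromNormalization g = pullback.snd f g := by
    rw [Category.assoc, Scheme.Hom.normalizationPullback_snd,
      Scheme.Hom.toNormalization_fromNormalization]
  have hq1 : ((pullback.snd f g).toNormalization ≫ f.normalizationPullback g) ≫
      pullback.fst f.fromNormalization g = pullback.fst f g ≫ f.toNormalization := by
    rw [Category.assoc]
    exact Scheme.Hom.toNormalization_normalizationPullback_fst f g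
  -- opens
  have hW1 : pullback.snd f.fromNormalization g ⁻¹ᵁ V ≤
      pullback.fst f.fromNormalization g ⁻¹ᵁ (f.fromNormalization ⁻¹ᵁ U) := by
    intro y hy
    have h1 : g (pullback.snd f.fromNormalization g y) ∈ U := hVU hy
    have h2 : f.fromNormalization (pullback.fst f.fromNormalization g y) =
        g (pullback.snd f.fromNormalization g y) := by
      have := congrArg (fun φ : pullback f.fromNormalization g ⟶ S => φ y)
        (pullback.condition (f := f.fromNormalization) (g := g))
      simpa using this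
    show f.fromNormalization (pullback.fst f.fromNormalization g y) ∈ U
    rw [h2]
    exact h1
  have hUY : pullback.snd f.fromNormalization g ⁻¹ᵁ V =
      pullback.fst f.fromNormalization g ⁻¹ᵁ (f.fromNormalization ⁻¹ᵁ U) ⊓
        pullback.snd f.fromNormalization g ⁻¹ᵁ V := (inf_eq_right.2 hW1).symm
  -- first pushout square: affine base change for the finite part
  have hiso1 := isIso_pushoutSection_of_isAffineOpen
    (IsPullback.of_hasPullback f.fromNormalization g) hVU le_rfl hUY hU hV
    (hU.preimage f.fromNormalization)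
  have sq1 := (isIso_pushoutSection_iff
    (IsPullback.of_hasPullback f.fromNormalization g) hVU le_rfl hUY).1 hiso1
  -- second pushout square: base change in degree zero
  have hbij := hloc g (pullback.fst f g) (pullback.snd f g) (IsPullback.of_hasPullback f g)
    V hV (hVU.trans (g.preimage_mono hUU₀))
  have sq2 := isPushout_app_of_bijective f g (pullback.fst f g) (pullback.snd f g)
    (IsPullback.of_hasPullback f g) hU hV hVU hbij
  have e'' := preimage_le f g (pullback.fst f g) (pullback.snd f g)
    (IsPullback.of_hasPullback f g) hVU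
  -- the comparison isomorphisms of the Stein factors
  have eθ : f ⁻¹ᵁ U ≤ f.toNormalization ⁻¹ᵁ (f.fromNormalization ⁻¹ᵁ U) := by
    rw [← Scheme.Hom.comp_preimage, f.toNormalization_fromNormalization]
  haveI hθ : IsIso (f.toNormalization.appLE (f.fromNormalization ⁻¹ᵁ U) (f ⁻¹ᵁ U) eθ) :=
    isIso_appLE_of_eq _ _ _
      (by rw [← Scheme.Hom.comp_preimage, f.toNormalization_fromNormalization]) eθ
      (Groth.Agent.Helper7.GeomConn.ZC.isIso_toNormalization_app_preimage f U hU)
  have hW' : f.normalizationPullback g ⁻¹ᵁ (pullback.snd f.fromNormalization g ⁻¹ᵁ V) =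
      (pullback.snd f g).fromNormalization ⁻¹ᵁ V := by
    rw [← Scheme.Hom.comp_preimage, Scheme.Hom.normalizationPullback_snd]
  have eτ' : pullback.snd f g ⁻¹ᵁ V ≤ (pullback.snd f g).toNormalization ⁻¹ᵁ
      (f.normalizationPullback g ⁻¹ᵁ (pullback.snd f.fromNormalization g ⁻¹ᵁ V)) := by
    rw [hW', ← Scheme.Hom.comp_preimage, (pullback.snd f g).toNormalization_fromNormalization]
  haveI hτ' : IsIso ((pullback.snd f g).toNormalization.appLE
      (f.normalizationPullback g ⁻¹ᵁ (pullback.snd f.fromNormalization g ⁻¹ᵁ V))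
      (pullback.snd f g ⁻¹ᵁ V) eτ') := by
    have key : ∀ (O : ((pullback.snd f g).normalization).Opens)
        (hO : O = (pullback.snd f g).fromNormalization ⁻¹ᵁ V)
        (e : pullback.snd f g ⁻¹ᵁ V ≤ (pullback.snd f g).toNormalization ⁻¹ᵁ O),
        IsIso ((pullback.snd f g).toNormalization.appLE O (pullback.snd f g ⁻¹ᵁ V) e) := by
      intro O hO e
      subst hO
      exact isIso_appLE_of_eq _ _ _
        (by rw [← Scheme.Hom.comp_preimage,
          (pullback.snd f g).toNormalization_fromNormalization]) e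
        (Groth.Agent.Helper7.GeomConn.ZC.isIso_toNormalization_app_preimage
          (pullback.snd f g) V hV)
    exact key _ hW' eτ'
  have eη : pullback.snd f g ⁻¹ᵁ V ≤
      ((pullback.snd f g).toNormalization ≫ f.normalizationPullback g) ⁻¹ᵁ
        (pullback.snd f.fromNormalization g ⁻¹ᵁ V) := by
    rw [Scheme.Hom.comp_preimage]
    exact eτ'
  have hη_fac : ((pullback.snd f g).toNormalization ≫ f.normalizationPullback g).appLE
      (pullback.snd f.fromNormalization g ⁻¹ᵁ V) (pullback.snd f g ⁻¹ᵁ V) eη =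
      (f.normalizationPullback g).app (pullback.snd f.fromNormalization g ⁻¹ᵁ V) ≫
        (pullback.snd f g).toNormalization.appLE
          (f.normalizationPullback g ⁻¹ᵁ (pullback.snd f.fromNormalization g ⁻¹ᵁ V))
          (pullback.snd f g ⁻¹ᵁ V) eτ' :=
    Scheme.Hom.comp_appLE _ _ _ _ _
  -- compatibilities
  have E1 : f.fromNormalization.appLE U (f.fromNormalization ⁻¹ᵁ U) le_rfl ≫
      f.toNormalization.appLE (f.fromNormalization ⁻¹ᵁ U) (f ⁻¹ᵁ U) eθ = f.app U := by
    rw [Scheme.Hom.appLE_comp_appLE, Scheme.Hom.app_eq_appLE]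
    exact h0_appLE_congr f.toNormalization_fromNormalization U _ _ _
  have E2 : (pullback.fst f.fromNormalization g).appLE (f.fromNormalization ⁻¹ᵁ U)
      (pullback.snd f.fromNormalization g ⁻¹ᵁ V) hW1 ≫
      ((pullback.snd f g).toNormalization ≫ f.normalizationPullback g).appLE
        (pullback.snd f.fromNormalization g ⁻¹ᵁ V) (pullback.snd f g ⁻¹ᵁ V) eη =
      f.toNormalization.appLE (f.fromNormalization ⁻¹ᵁ U) (f ⁻¹ᵁ U) eθ ≫
        (pullback.fst f g).appLE (f ⁻¹ᵁ U) (pullback.snd f g ⁻¹ᵁ V) e'' := by
    rw [Scheme.Hom.appLE_comp_appLE, Scheme.Hom.appLE_comp_appLE]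
    exact h0_appLE_congr hq1 _ _ _ _
  have E3 : (pullback.snd f.fromNormalization g).appLE V
      (pullback.snd f.fromNormalization g ⁻¹ᵁ V) le_rfl ≫
      ((pullback.snd f g).toNormalization ≫ f.normalizationPullback g).appLE
        (pullback.snd f.fromNormalization g ⁻¹ᵁ V) (pullback.snd f g ⁻¹ᵁ V) eη =
      (pullback.snd f g).app V := by
    rw [Scheme.Hom.appLE_comp_appLE, Scheme.Hom.app_eq_appLE]
    exact h0_appLE_congr hq2 V _ _ _
  have sq2' : IsPushout (f.fromNormalization.appLE U (f.fromNormalization ⁻¹ᵁ U) le_rfl)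
      (g.appLE U V hVU)
      (f.toNormalization.appLE (f.fromNormalization ⁻¹ᵁ U) (f ⁻¹ᵁ U) eθ ≫
        (pullback.fst f g).appLE (f ⁻¹ᵁ U) (pullback.snd f g ⁻¹ᵁ V) e'')
      ((pullback.snd f g).app V) := by
    refine sq2.of_iso (Iso.refl _)
      (asIso (f.toNormalization.appLE (f.fromNormalization ⁻¹ᵁ U) (f ⁻¹ᵁ U) eθ)).symm
      (Iso.refl _) (Iso.refl _) ?_ ?_ ?_ ?_
    · simp only [Iso.refl_hom, Category.id_comp, Iso.symm_hom, asIso_inv]
      rw [← E1, Category.assoc, IsIso.hom_inv_id, Category.comp_id]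
    · simp
    · simp
    · simp
  have hηe : ((pullback.snd f g).toNormalization ≫ f.normalizationPullback g).appLE
      (pullback.snd f.fromNormalization g ⁻¹ᵁ V) (pullback.snd f g ⁻¹ᵁ V) eη =
      (sq1.isoIsPushout _ _ sq2').hom := by
    apply sq1.hom_ext
    · rw [IsPushout.inl_isoIsPushout_hom]
      exact E2
    · rw [IsPushout.inr_isoIsPushout_hom]
      exact E3
  have hisoη : IsIso (((pullback.snd f g).toNormalization ≫ f.normalizationPullback g).appLE
      (pullback.snd f.fromNormalization g ⁻¹ᵁ V) (pullback.snd f g ⁻¹ᵁ V) eη) := by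
    rw [hηe]
    infer_instance
  rw [hη_fac] at hisoη
  haveI := hisoη
  exact IsIso.of_isIso_comp_right
    ((f.normalizationPullback g).app (pullback.snd f.fromNormalization g ⁻¹ᵁ V))
    ((pullback.snd f g).toNormalization.appLE
      (f.normalizationPullback g ⁻¹ᵁ (pullback.snd f.fromNormalization g ⁻¹ᵁ V))
      (pullback.snd f g ⁻¹ᵁ V) eτ')

/-- the form for morphisms with geometrically reduced fibres -/
theorem isIso_normalizationPullback_of_geomReduced [GeometricallyReduced f] (g : T ⟶ S) :
    IsIso (f.normalizationPullback g) :=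
  isIso_normalizationPullback f (fun t => etale_fibre_of_geomReduced f t) g

end Main

end Groth.Agent.Helper7.EtH0
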